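import Cfsg.Agent.Lib.SuzukiTwo.Center

/-!
Groups of order `64` with a Klein centre consisting of the involutions, central squares, and every
noncentral element having all central elements as commutators: any two are isomorphic.
-/

set_option autoImplicit false
set_option linter.unusedSectionVars false

namespace CfsgLib.SuzukiTwo

open scoped commutatorElement

universe u v

section Closure

variable {G : Type u} [Group G] [Finite G]

theorem conj_mem_closure {S : Set G} {g : G} (hc : ∀ s ∈ S, ⁅g, s⁆ ∈ Subgroup.closure S) :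
    ∀ l ∈ Subgroup.closure S, g * l * g⁻¹ ∈ Subgroup.closure S := by
  intro l hl
  induction hl using Subgroup.closure_induction with
  | mem s hs =>
    rw [show g * s * g⁻¹ = ⁅g, s⁆ * s by simp only [commutatorElement_def]; group]
    exact mul_mem (hc s hs) (Subgroup.subset_closure hs)
  | one => rw [mul_one, mul_inv_cancel]; exact one_mem _
  | mul a b _ _ iha ihb =>
    rw [show g * (a * b) * g⁻¹ = (g * a * g⁻¹) * (g * b * g⁻¹) by group]
    exact mul_mem iha ihb
  | inv a _ iha =>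
    rw [show g * a⁻¹ * g⁻¹ = (g * a * g⁻¹)⁻¹ by group]
    exact InvMemClass.inv_mem iha

/-- Adjoining an element squaring into a subgroup at most doubles it. -/
theorem card_closure_insert {S : Set G} {g : G} (h2 : g * g ∈ Subgroup.closure S)
    (hc : ∀ s ∈ S, ⁅g, s⁆ ∈ Subgroup.closure S) :
    Nat.card (Subgroup.closure (insert g S)) ≤ 2 * Nat.card (Subgroup.closure S) := by
  classical
  set L := Subgroup.closure S with hL
  have hgl : ∀ l ∈ L, g * l * g⁻¹ ∈ L := conj_mem_closure hc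
  have hgl' : ∀ l ∈ L, g⁻¹ * l * g ∈ L := fun l hl => by
    rw [show g⁻¹ * l * g = (g * g)⁻¹ * (g * l * g⁻¹) * (g * g) by group]
    exact L.mul_mem (L.mul_mem (L.inv_mem h2) (hgl l hl)) h2
  let M : Subgroup G :=
    { carrier := {x | x ∈ L ∨ x * g⁻¹ ∈ L}
      one_mem' := Or.inl L.one_mem
      mul_mem' := fun {x y} hx hy => by
        rcases hx with hx | hx <;> rcases hy with hy | hy
        · exact Or.inl (L.mul_mem hx hy)
        · exact Or.inr (by rw [mul_assoc]; exact L.mul_mem hx hy)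
        · refine Or.inr ?_
          rw [show x * y * g⁻¹ = (x * g⁻¹) * (g * y * g⁻¹) by group]
          exact L.mul_mem hx (hgl y hy)
        · refine Or.inl ?_
          rw [show x * y = (x * g⁻¹) * (g * (y * g⁻¹) * g⁻¹) * (g * g) by group]
          exact L.mul_mem (L.mul_mem hx (hgl _ hy)) h2
      inv_mem' := fun {x} hx => by
        rcases hx with hx | hx
        · exact Or.inl (L.inv_mem hx)
        · refine Or.inr ?_
          rw [show x⁻¹ * g⁻¹ = g⁻¹ * (x * g⁻¹)⁻¹ * g * (g * g)⁻¹ by group]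
          exact L.mul_mem (hgl' _ (L.inv_mem hx)) (L.inv_mem h2) }
  have hle : Subgroup.closure (insert g S) ≤ M := by
    rw [Subgroup.closure_le]
    rintro x (rfl | hx)
    · exact Or.inr (by rw [mul_inv_cancel]; exact L.one_mem)
    · exact Or.inl (Subgroup.subset_closure hx)
  refine (Subgroup.card_le_of_le hle).trans ?_
  have hf : Function.Injective
      (fun x : M => if hx : (x : G) ∈ L then (Sum.inl ⟨x, hx⟩ : L ⊕ L)
        else Sum.inr ⟨(x : G) * g⁻¹, x.2.resolve_left hx⟩) := by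
    intro x y hxy
    simp only at hxy
    split_ifs at hxy with h1 h2' h3
    · have e := congrArg Subtype.val (Sum.inl.inj hxy)
      exact Subtype.ext e
    · have e := congrArg Subtype.val (Sum.inr.inj hxy)
      exact Subtype.ext (mul_right_cancel e)
  refine (Nat.card_le_card_of_injective _ hf).trans ?_
  rw [Nat.card_sum]
  omega

/-- Adjoining a new element at least doubles. -/
theorem le_card_closure_insert {S : Set G} {g : G} (hg : g ∉ Subgroup.closure S) :
    2 * Nat.card (Subgroup.closure S) ≤ Nat.card (Subgroup.closure (insert g S)) := by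
  have hle : Subgroup.closure S ≤ Subgroup.closure (insert g S) := Subgroup.closure_mono (Set.subset_insert g S)
  obtain ⟨c, hc⟩ := Subgroup.card_dvd_of_le hle
  have hne : Subgroup.closure S ≠ Subgroup.closure (insert g S) := fun he =>
    hg (he ▸ Subgroup.subset_closure (Set.mem_insert g S))
  rcases c with _ | _ | c
  · rw [mul_zero] at hc; exact absurd hc Nat.card_pos.ne'
  · rw [zero_add, mul_one] at hc
    exact absurd (Subgroup.eq_of_le_of_card_ge hle hc.le) hne
  · rw [hc, mul_comm]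
    exact Nat.mul_le_mul_left _ (by omega)

end Closure

/-- The defining properties. -/
structure Sixty (W : Type u) [Group W] : Prop where
  card : Nat.card W = 64
  card_center : Nat.card (Subgroup.center W) = 4
  sq : ∀ x : W, x * x ∈ Subgroup.center W
  cen : ∀ z ∈ Subgroup.center W, z * z = 1
  inv : ∀ x : W, x * x = 1 → x ∈ Subgroup.center W
  surj : ∀ x : W, x ∉ Subgroup.center W → ∀ z ∈ Subgroup.center W, ∃ y, ⁅x, y⁆ = z

/-- A standard generating system. -/
structure Frame (W : Type u) [Group W] (a₁ a₂ c₁ c₂ z₁ z₂ : W) : Prop where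
  sa₁ : a₁ * a₁ = z₁
  sa₂ : a₂ * a₂ = z₂
  sc₁ : c₁ * c₁ = z₁
  sc₂ : c₂ * c₂ = z₂
  ca : ⁅a₂, a₁⁆ = 1
  cc : ⁅c₂, c₁⁆ = 1
  k₁₁ : ⁅c₁, a₁⁆ = z₂
  k₁₂ : ⁅c₂, a₁⁆ = z₁
  k₂₁ : ⁅c₁, a₂⁆ = z₁
  k₂₂ : ⁅c₂, a₂⁆ = z₁ * z₂
  gen : Subgroup.closure ({a₁, a₂, c₁, c₂} : Set W) = ⊤

theorem zmod2_cases : ∀ i : ZMod 2, i = 0 ∨ i = 1 := by decide

/-- A power with exponent `0` or `1`. -/
def bw {W : Type u} [Group W] (g : W) (i : ZMod 2) : W := if i = 0 then 1 else g

set_option synthInstance.maxSize 2000 in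
set_option maxRecDepth 100000 in
set_option maxHeartbeats 2000000 in
theorem beta_cases : ∀ b₁₁ b₁₂ b₂₁ b₂₂ : ZMod 2 × ZMod 2,
    (∀ x y : ZMod 2 × ZMod 2, x ≠ 0 → y ≠ 0 →
      ((x.1 * y.1) • b₁₁ + (x.1 * y.2) • b₁₂ + (x.2 * y.1) • b₂₁ + (x.2 * y.2) • b₂₂ ≠ 0 ∧
       (x.1 * y.1) • b₁₁ + (x.1 * y.2) • b₁₂ + (x.2 * y.1) • b₂₁ + (x.2 * y.2) • b₂₂ + x + y ≠ 0)) →
    (b₁₁ = (0, 1) ∧ b₁₂ = (1, 0) ∧ b₂₁ = (1, 0) ∧ b₂₂ = (1, 1)) ∨
    (b₁₁ = (1, 1) ∧ b₁₂ = (0, 1) ∧ b₂₁ = (0, 1) ∧ b₂₂ = (1, 0)) := by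
  decide

variable {W : Type u} [Group W] [Finite W]

theorem Sixty.good (h : Sixty W) : Good W := ⟨h.sq, h.cen⟩

theorem Sixty.cc (h : Sixty W) (x y : W) : ⁅x, y⁆ ∈ Subgroup.center W := h.good.commutator_mem x y

theorem Sixty.comm_symm (h : Sixty W) (x y : W) : ⁅y, x⁆ = ⁅x, y⁆ := by
  rw [← commutatorElement_inv, inv_eq_of_mul_eq_one_left]
  exact h.cen _ (h.cc x y)

theorem Sixty.card_centralizer (h : Sixty W) {x : W} (hx : x ∉ Subgroup.center W) :
    Nat.card (Subgroup.centralizer ({x} : Set W)) = 16 := by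
  let τ : W →* Subgroup.center W :=
    { toFun := fun y => ⟨⁅x, y⁆, h.cc x y⟩
      map_one' := Subtype.ext (commutatorElement_one_right x)
      map_mul' := fun a b => Subtype.ext (commutator_right_central (h.cc x b)) }
  have hker : τ.ker = Subgroup.centralizer ({x} : Set W) := by
    ext y
    rw [MonoidHom.mem_ker, Subgroup.mem_centralizer_singleton_iff]
    constructor
    · intro hy; exact (commutatorElement_eq_one_iff_mul_comm.mp (congrArg Subtype.val hy)).symm
    · intro hy; exact Subtype.ext (commutatorElement_eq_one_iff_mul_comm.mpr hy.symm)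
  have hsur : Function.Surjective τ := fun z => by
    obtain ⟨y, hy⟩ := h.surj x hx z z.2
    exact ⟨y, Subtype.ext hy⟩
  have h1 := Subgroup.card_mul_index τ.ker
  rw [Subgroup.index_ker, MonoidHom.range_eq_top.mpr hsur, Subgroup.card_top, h.card_center, h.card, hker] at h1
  omega

theorem Sixty.mem_centralizer (h : Sixty W) (x : W) {z : W} (hz : z ∈ Subgroup.center W) :
    z ∈ Subgroup.centralizer ({x} : Set W) :=
  Subgroup.mem_centralizer_singleton_iff.mpr (Subgroup.mem_center_iff.mp hz x).symm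

/-- Centralisers of noncentral elements are abelian. -/
theorem Sixty.centralizer_comm (h : Sixty W) {x : W} (hx : x ∉ Subgroup.center W) :
    ∀ a ∈ Subgroup.centralizer ({x} : Set W), ∀ b ∈ Subgroup.centralizer ({x} : Set W), a * b = b * a := by
  set C := Subgroup.centralizer ({x} : Set W) with hC
  set Z := Subgroup.center W with hZ
  have hxC : x ∈ C := Subgroup.mem_centralizer_singleton_iff.mpr rfl
  have h8 : 8 ≤ Nat.card (Subgroup.closure (insert x (Z : Set W))) := by
    have := le_card_closure_insert (S := (Z : Set W)) (g := x) (by rwa [Subgroup.closure_eq])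
    rw [Subgroup.closure_eq, h.card_center] at this
    omega
  have h8' : Nat.card (Subgroup.closure (insert x (Z : Set W))) ≤ 8 := by
    have := card_closure_insert (S := (Z : Set W)) (g := x) (by rw [Subgroup.closure_eq]; exact h.sq x)
      (fun s hs => by rw [Subgroup.closure_eq]; exact h.cc x s)
    rw [Subgroup.closure_eq, h.card_center] at this
    omega
  obtain ⟨y, hyC, hy⟩ : ∃ y ∈ C, y ∉ Subgroup.closure (insert x (Z : Set W)) := by
    by_contra hno
    push Not at hno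
    have := Subgroup.card_le_of_le (show C ≤ _ from hno)
    rw [h.card_centralizer hx] at this
    omega
  set L := Subgroup.closure (insert y (insert x (Z : Set W))) with hL
  have hLC : L = C := by
    refine Subgroup.eq_of_le_of_card_ge ?_ ?_
    · rw [hL, Subgroup.closure_le]
      rintro v (rfl | rfl | hv)
      · exact hyC
      · exact hxC
      · exact h.mem_centralizer x hv
    · have := le_card_closure_insert hy
      rw [h.card_centralizer hx]
      rw [← hL] at this
      omega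
  have hcy : ∀ v ∈ L, v * y = y * v := by
    intro v hv
    induction hv using Subgroup.closure_induction with
    | mem v hv =>
      rcases hv with rfl | rfl | hv
      · rfl
      · exact (Subgroup.mem_centralizer_singleton_iff.mp hyC).symm
      · exact (Subgroup.mem_center_iff.mp hv y).symm
    | one => simp
    | mul a b _ _ iha ihb => rw [mul_assoc, ihb, ← mul_assoc, iha, mul_assoc]
    | inv a _ iha => exact ((show Commute a y from iha).inv_left).eq
  intro a ha b hb
  rw [← hLC] at hb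
  induction hb using Subgroup.closure_induction with
  | mem v hv =>
    rcases hv with rfl | rfl | hv
    · exact hcy a (hLC ▸ ha)
    · exact Subgroup.mem_centralizer_singleton_iff.mp ha
    · exact Subgroup.mem_center_iff.mp hv a
  | one => simp
  | mul v w _ _ ihv ihw => rw [← mul_assoc, ihv, mul_assoc, ihw, mul_assoc]
  | inv v _ ihv => exact ((show Commute a v from ihv).inv_right).eq

theorem Sixty.centralizer_eq (h : Sixty W) {x y : W} (hx : x ∉ Subgroup.center W)
    (hy : y ∈ Subgroup.centralizer ({x} : Set W)) (hy' : y ∉ Subgroup.center W) :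
    Subgroup.centralizer ({y} : Set W) = Subgroup.centralizer ({x} : Set W) := by
  symm
  refine Subgroup.eq_of_le_of_card_ge (fun v hv => ?_) (by rw [h.card_centralizer hx, h.card_centralizer hy'])
  exact Subgroup.mem_centralizer_singleton_iff.mpr (h.centralizer_comm hx v hv y hy)

/-- Squares in a centraliser attain every central element. -/
theorem Sixty.exists_sqrt (h : Sixty W) {x : W} (hx : x ∉ Subgroup.center W) {z : W}
    (hz : z ∈ Subgroup.center W) : ∃ y ∈ Subgroup.centralizer ({x} : Set W), y * y = z := by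
  set C := Subgroup.centralizer ({x} : Set W) with hC
  let σ : C →* Subgroup.center W :=
    { toFun := fun y => ⟨(y : W) * y, h.sq _⟩
      map_one' := Subtype.ext (one_mul 1)
      map_mul' := fun a b => Subtype.ext (by
        show (a : W) * b * (a * b) = a * a * (b * b)
        rw [show (a : W) * b * (a * b) = a * (b * a) * b by group, ← h.centralizer_comm hx a a.2 b b.2]
        group) }
  have hker : Nat.card σ.ker = 4 := by
    rw [← h.card_center]
    refine Nat.card_congr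
      { toFun := fun y => ⟨y.1.1, h.inv _ (congrArg Subtype.val y.2)⟩
        invFun := fun v => ⟨⟨v.1, h.mem_centralizer x v.2⟩, Subtype.ext (h.cen _ v.2)⟩
        left_inv := fun y => rfl
        right_inv := fun v => rfl }
  have h1 := Subgroup.card_mul_index σ.ker
  rw [Subgroup.index_ker, hker, h.card_centralizer hx] at h1
  have htop : σ.range = ⊤ := Subgroup.eq_top_of_card_eq _ (by rw [h.card_center]; omega)
  obtain ⟨y, hy⟩ := MonoidHom.range_eq_top.mp htop ⟨z, hz⟩
  exact ⟨y, y.2, congrArg Subtype.val hy⟩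

theorem Sixty.exists_frame (h : Sixty W) : ∃ a₁ a₂ c₁ c₂ z₁ z₂ : W, Frame W a₁ a₂ c₁ c₂ z₁ z₂ := by
  classical
  set Z := Subgroup.center W with hZ
  obtain ⟨a₁, ha₁⟩ : ∃ a, a ∉ Z := by
    by_contra hno
    push Not at hno
    have := Subgroup.card_le_of_le (show (⊤ : Subgroup W) ≤ Z from fun v _ => hno v)
    rw [Subgroup.card_top, h.card, h.card_center] at this
    omega
  set z₁ := a₁ * a₁ with hz₁d
  have hz₁ : z₁ ∈ Z := h.sq _
  have hz₁1 : z₁ ≠ 1 := fun he => ha₁ (h.inv _ he)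
  obtain ⟨z₂, hz₂, hz₂1, hz₂z⟩ : ∃ z ∈ Z, z ≠ 1 ∧ z ≠ z₁ := by
    by_contra hno
    push Not at hno
    have hsub : (Z : Set W) ⊆ ({1, z₁} : Finset W) := fun v hv => by
      by_cases hv1 : v = 1
      · simp [hv1]
      · simp [hno v hv hv1]
    have h1 : Nat.card Z ≤ ({1, z₁} : Finset W).card := by
      rw [← SetLike.coe_sort_coe, Nat.card_coe_set_eq, ← Set.ncard_coe_finset]
      exact Set.ncard_le_ncard hsub (Finset.finite_toSet _)
    have := h1.trans Finset.card_le_two
    rw [h.card_center] at this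
    omega
  have hbZ : ∀ {g : W}, g ∈ Z → ∀ i : ZMod 2, bw g i ∈ Z := fun {g} hg i => by
    unfold bw; split
    · exact one_mem _
    · exact hg
  have hpow : ∀ g : W, g * g = 1 → ∀ i j : ZMod 2, bw g (i + j) = bw g i * bw g j := fun g hg i j => by
    rcases zmod2_cases i with rfl | rfl <;> rcases zmod2_cases j with rfl | rfl <;>
      simp [bw, hg, show (1 : ZMod 2) + 1 = 0 from rfl]
  let f : ZMod 2 × ZMod 2 → W := fun v => bw z₁ v.1 * bw z₂ v.2
  have hfZ : ∀ v, f v ∈ Z := fun v => mul_mem (hbZ hz₁ _) (hbZ hz₂ _)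
  have hfadd : ∀ v w, f (v + w) = f v * f w := fun v w => by
    show bw z₁ (v.1 + w.1) * bw z₂ (v.2 + w.2) = _
    rw [hpow _ (h.cen _ hz₁), hpow _ (h.cen _ hz₂)]
    have := Subgroup.mem_center_iff.mp (hbZ hz₂ v.2) (bw z₁ w.1)
    show _ = bw z₁ v.1 * bw z₂ v.2 * (bw z₁ w.1 * bw z₂ w.2)
    rw [show bw z₁ v.1 * bw z₂ v.2 * (bw z₁ w.1 * bw z₂ w.2)
      = bw z₁ v.1 * (bw z₂ v.2 * bw z₁ w.1) * bw z₂ w.2 by group, ← this]
    group
  have hf0 : f 0 = 1 := by simp [f, bw]
  have hz12 : z₁ * z₂ ≠ 1 := fun he => hz₂z (by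
    rw [eq_inv_of_mul_eq_one_right he, ← eq_inv_of_mul_eq_one_right (h.cen _ hz₁)])
  have hfne : ∀ v, f v = 1 → v = 0 := fun v hv => by
    obtain ⟨i, j⟩ := v
    rcases zmod2_cases i with rfl | rfl <;> rcases zmod2_cases j with rfl | rfl <;> simp [f, bw] at hv ⊢
    · exact hz₂1 hv
    · exact hz₁1 hv
    · exact hz12 hv
  have hfinj : Function.Injective f := fun v w he => by
    have : f (v + w) = 1 := by rw [hfadd, he]; exact h.cen _ (hfZ w)
    exact (show ∀ p q : ZMod 2 × ZMod 2, p + q = 0 → p = q by decide) v w (hfne _ this)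
  have hfsurj : ∀ z ∈ Z, ∃ v, f v = z := fun z hz => by
    have hb : Function.Bijective (fun v => (⟨f v, hfZ v⟩ : Z)) := by
      refine (Nat.bijective_iff_injective_and_card _).mpr ⟨fun v w he => hfinj (congrArg Subtype.val he), ?_⟩
      rw [h.card_center, Nat.card_prod, Nat.card_zmod]
    obtain ⟨v, hv⟩ := hb.2 ⟨z, hz⟩
    exact ⟨v, congrArg Subtype.val hv⟩
  -- the two abelian subgroups
  set A := Subgroup.centralizer ({a₁} : Set W) with hA
  obtain ⟨a₂, ha₂A, ha₂⟩ := h.exists_sqrt ha₁ hz₂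
  obtain ⟨w, hw⟩ : ∃ w, w ∉ A := by
    by_contra hno
    push Not at hno
    have := Subgroup.card_le_of_le (show (⊤ : Subgroup W) ≤ A from fun v _ => hno v)
    rw [Subgroup.card_top, h.card, h.card_centralizer ha₁] at this
    omega
  have hwZ : w ∉ Z := fun hh => hw (h.mem_centralizer a₁ hh)
  set C := Subgroup.centralizer ({w} : Set W) with hC
  obtain ⟨c₁, hc₁C, hc₁⟩ := h.exists_sqrt hwZ hz₁
  obtain ⟨c₂, hc₂C, hc₂⟩ := h.exists_sqrt hwZ hz₂
  have hAC : ∀ v ∈ A, v ∈ C → v ∈ Z := fun v hv hv' => by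
    by_contra hvZ
    refine hw ?_
    have h1 := h.centralizer_eq ha₁ hv hvZ
    have h2 := h.centralizer_eq hwZ hv' hvZ
    rw [hA, ← h1, h2]
    exact Subgroup.mem_centralizer_singleton_iff.mpr rfl
  have ha₁A : a₁ ∈ A := Subgroup.mem_centralizer_singleton_iff.mpr rfl
  let av : ZMod 2 × ZMod 2 → W := fun x => bw a₁ x.1 * bw a₂ x.2
  let cv : ZMod 2 × ZMod 2 → W := fun x => bw c₁ x.1 * bw c₂ x.2
  have hbmem : ∀ {H : Subgroup W} {g : W}, g ∈ H → ∀ i : ZMod 2, bw g i ∈ H := fun {H g} hg i => by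
    unfold bw; split
    · exact one_mem _
    · exact hg
  have havA : ∀ x, av x ∈ A := fun x => mul_mem (hbmem ha₁A _) (hbmem ha₂A _)
  have hcvC : ∀ x, cv x ∈ C := fun x => mul_mem (hbmem hc₁C _) (hbmem hc₂C _)
  have hsqb : ∀ {g z : W}, g * g = z → ∀ i : ZMod 2, bw g i * bw g i = bw z i := fun {g z} hg i => by
    unfold bw; split
    · rw [one_mul]
    · exact hg
  have hsq_av : ∀ x, av x * av x = f x := fun x => by
    have hc := h.centralizer_comm ha₁ _ (hbmem ha₁A x.1) _ (hbmem ha₂A x.2)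
    show bw a₁ x.1 * bw a₂ x.2 * (bw a₁ x.1 * bw a₂ x.2) = bw z₁ x.1 * bw z₂ x.2
    rw [show bw a₁ x.1 * bw a₂ x.2 * (bw a₁ x.1 * bw a₂ x.2)
      = bw a₁ x.1 * (bw a₂ x.2 * bw a₁ x.1) * bw a₂ x.2 by group, ← hc, ← hsqb rfl, ← hsqb ha₂]
    group
  have hsq_cv : ∀ x, cv x * cv x = f x := fun x => by
    have hc := h.centralizer_comm hwZ _ (hbmem hc₁C x.1) _ (hbmem hc₂C x.2)
    show bw c₁ x.1 * bw c₂ x.2 * (bw c₁ x.1 * bw c₂ x.2) = bw z₁ x.1 * bw z₂ x.2
    rw [show bw c₁ x.1 * bw c₂ x.2 * (bw c₁ x.1 * bw c₂ x.2)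
      = bw c₁ x.1 * (bw c₂ x.2 * bw c₁ x.1) * bw c₂ x.2 by group, ← hc, ← hsqb hc₁, ← hsqb hc₂]
    group
  have hav0 : ∀ x, av x ∈ Z → x = 0 := fun x hx => hfne x (by rw [← hsq_av]; exact h.cen _ hx)
  have hcv0 : ∀ x, cv x ∈ Z → x = 0 := fun x hx => hfne x (by rw [← hsq_cv]; exact h.cen _ hx)
  -- the pairing
  obtain ⟨b₁₁, hb₁₁⟩ := hfsurj _ (h.cc c₁ a₁)
  obtain ⟨b₁₂, hb₁₂⟩ := hfsurj _ (h.cc c₂ a₁)
  obtain ⟨b₂₁, hb₂₁⟩ := hfsurj _ (h.cc c₁ a₂)
  obtain ⟨b₂₂, hb₂₂⟩ := hfsurj _ (h.cc c₂ a₂)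
  have hpair : ∀ {c a : W} {b : ZMod 2 × ZMod 2}, f b = ⁅c, a⁆ → ∀ i j : ZMod 2,
      ⁅bw c j, bw a i⁆ = f ((i * j) • b) := fun {c a b} hb i j => by
    rcases zmod2_cases i with rfl | rfl <;> rcases zmod2_cases j with rfl | rfl <;> simp [bw, hf0, hb]
  let β : ZMod 2 × ZMod 2 → ZMod 2 × ZMod 2 → ZMod 2 × ZMod 2 := fun x y =>
    (x.1 * y.1) • b₁₁ + (x.1 * y.2) • b₁₂ + (x.2 * y.1) • b₂₁ + (x.2 * y.2) • b₂₂
  have hβ : ∀ x y, ⁅cv y, av x⁆ = f (β x y) := fun x y => by
    show ⁅bw c₁ y.1 * bw c₂ y.2, bw a₁ x.1 * bw a₂ x.2⁆ = _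
    rw [commutator_left_central (h.cc _ _), commutator_right_central (h.cc _ _),
      commutator_right_central (h.cc _ _), hpair hb₁₁, hpair hb₂₁, hpair hb₁₂, hpair hb₂₂, ← hfadd, ← hfadd, ← hfadd]
    congr 1
    simp only [β]
    abel
  have hcond : ∀ x y : ZMod 2 × ZMod 2, x ≠ 0 → y ≠ 0 → (β x y ≠ 0 ∧ β x y + x + y ≠ 0) := by
    intro x y hx hy
    have hxZ : av x ∉ Z := fun hh => hx (hav0 x hh)
    have hyA : cv y ∉ A := fun hh => hy (hcv0 y (hAC _ hh (hcvC y)))
    refine ⟨fun h0 => ?_, fun h0 => ?_⟩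
    · apply hyA
      rw [hA, ← h.centralizer_eq ha₁ (havA x) hxZ]
      refine Subgroup.mem_centralizer_singleton_iff.mpr (commutatorElement_eq_one_iff_mul_comm.mp ?_)
      rw [hβ, h0, hf0]
    · apply hyA
      have hsq : av x * cv y * (av x * cv y) = 1 := by
        rw [show av x * cv y * (av x * cv y) = av x * (⁅cv y, av x⁆ * av x) * cv y * cv y by
          simp only [commutatorElement_def]; group, hβ,
          show av x * (f (β x y) * av x) = av x * av x * f (β x y) by
            rw [← Subgroup.mem_center_iff.mp (hfZ (β x y)) (av x)]; group,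
          mul_assoc _ (cv y), hsq_av, hsq_cv, ← hfadd, ← hfadd, ← hf0, ← h0]
        congr 1
        abel
      have hm := h.inv _ hsq
      have := A.mul_mem (A.inv_mem (havA x)) (h.mem_centralizer a₁ hm)
      rwa [inv_mul_cancel_left] at this
  -- generation
  have hgenA : Subgroup.closure ({a₁, a₂, c₁, c₂} : Set W) = ⊤ := by
    set K := Subgroup.closure ({a₁, a₂, c₁, c₂} : Set W) with hK
    have m₁ : a₁ ∈ K := Subgroup.subset_closure (by simp)
    have m₂ : a₂ ∈ K := Subgroup.subset_closure (by simp)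
    have m₃ : c₁ ∈ K := Subgroup.subset_closure (by simp)
    have m₄ : c₂ ∈ K := Subgroup.subset_closure (by simp)
    let φ : (ZMod 2 × ZMod 2) × (ZMod 2 × ZMod 2) × (ZMod 2 × ZMod 2) → W := fun t => f t.1 * av t.2.1 * cv t.2.2
    have hφK : ∀ t, φ t ∈ K := fun t =>
      mul_mem (mul_mem (mul_mem (hbmem (mul_mem m₁ m₁) _) (hbmem (ha₂ ▸ mul_mem m₂ m₂) _))
        (mul_mem (hbmem m₁ _) (hbmem m₂ _))) (mul_mem (hbmem m₃ _) (hbmem m₄ _))
    have hinj : Function.Injective φ := by
      rintro ⟨p, x, y⟩ ⟨p', x', y'⟩ he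
      simp only [φ] at he
      have he2 : cv y * (cv y')⁻¹ = (f p * av x)⁻¹ * (f p' * av x') := by
        rw [eq_inv_mul_iff_mul_eq, ← mul_assoc, he, mul_inv_cancel_right]
      have hyy : cv y * (cv y')⁻¹ ∈ Z := by
        refine hAC _ ?_ (C.mul_mem (hcvC y) (C.inv_mem (hcvC y')))
        rw [he2]
        exact A.mul_mem (A.inv_mem (A.mul_mem (h.mem_centralizer _ (hfZ p)) (havA x)))
          (A.mul_mem (h.mem_centralizer _ (hfZ p')) (havA x'))
      have hy : y = y' := by
        refine hfinj ?_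
        have h1 := h.cen _ hyy
        have hc := h.centralizer_comm hwZ _ (hcvC y) _ (C.inv_mem (hcvC y'))
        rw [show cv y * (cv y')⁻¹ * (cv y * (cv y')⁻¹) = cv y * ((cv y')⁻¹ * cv y) * (cv y')⁻¹ by group, ← hc,
          show cv y * (cv y * (cv y')⁻¹) * (cv y')⁻¹ = cv y * cv y * (cv y' * cv y')⁻¹ by group,
          hsq_cv, hsq_cv] at h1
        exact mul_inv_eq_one.mp h1
      subst hy
      have he3 : f p * av x = f p' * av x' := mul_right_cancel he
      have hx : x = x' := by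
        refine hfinj ?_
        have h1 : f p * av x * (f p * av x) = f p' * av x' * (f p' * av x') := by rw [he3]
        have e : ∀ q z, f q * av z * (f q * av z) = f z := fun q z => by
          rw [show f q * av z * (f q * av z) = f q * (av z * f q) * av z by group,
            Subgroup.mem_center_iff.mp (hfZ q) (av z),
            show f q * (f q * av z) * av z = f q * f q * (av z * av z) by group, h.cen _ (hfZ q), one_mul, hsq_av]
        rw [e, e] at h1
        exact h1
      subst hx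
      exact Prod.ext (hfinj (mul_right_cancel he3)) rfl
    have hb : Function.Bijective φ :=
      (Nat.bijective_iff_injective_and_card φ).mpr ⟨hinj, by simp [Nat.card_prod, h.card]⟩
    rw [eq_top_iff]
    intro g _
    obtain ⟨t, rfl⟩ := hb.2 g
    exact hφK t
  have e10 : f (1, 0) = z₁ := by simp [f, bw]
  have e01 : f (0, 1) = z₂ := by simp [f, bw]
  have e11 : f (1, 1) = z₁ * z₂ := by simp [f, bw]
  have hc0 : ⁅a₂, a₁⁆ = 1 := commutatorElement_eq_one_iff_mul_comm.mpr (h.centralizer_comm ha₁ _ ha₂A _ ha₁A)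
  have hc0' : ⁅c₂, c₁⁆ = 1 := commutatorElement_eq_one_iff_mul_comm.mpr (h.centralizer_comm hwZ _ hc₂C _ hc₁C)
  rcases beta_cases b₁₁ b₁₂ b₂₁ b₂₂ hcond with ⟨rfl, rfl, rfl, rfl⟩ | ⟨rfl, rfl, rfl, rfl⟩
  · exact ⟨a₁, a₂, c₁, c₂, z₁, z₂, rfl, ha₂, hc₁, hc₂, hc0, hc0', by rw [← hb₁₁, e01], by rw [← hb₁₂, e10],
      by rw [← hb₂₁, e10], by rw [← hb₂₂, e11], hgenA⟩
  · refine ⟨a₂, a₁, c₂, c₁, z₂, z₁, ha₂, rfl, hc₂, hc₁, ?_, ?_, by rw [← hb₂₂, e10], by rw [← hb₂₁, e01],
      by rw [← hb₁₂, e01], ?_, ?_⟩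
    · rw [h.comm_symm]; exact hc0
    · rw [h.comm_symm]; exact hc0'
    · rw [← hb₁₁, e11]
      exact (Subgroup.mem_center_iff.mp hz₁ z₂).symm
    · rw [← hgenA]
      congr 1
      ext g
      simp only [Set.mem_insert_iff, Set.mem_singleton_iff]
      tauto

end CfsgLib.SuzukiTwo
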