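import Cfsg.Agent.Lib.UnitaryFourSylow
import Cfsg.Agent.Lib.SuzukiTwo.SixtyFour

/-!
Commutators in the Sylow 2-subgroup of `PSU(3,4)`.
-/

set_option autoImplicit false
set_option linter.unusedSectionVars false

namespace CfsgLib.SuzukiTwo

open Matrix CfsgLib.PSUBorel
open scoped commutatorElement

variable {F : Type*} [Field F] [Fintype F]

/-- A Heisenberg-type group of order `64`. -/
theorem sixty_of_coords {W : Type*} [Group W] [Finite W] (σ : F →+* F) (h16 : Fintype.card F = 16) [CharP F 2]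
    (hinv : ∀ x, σ (σ x) = x) (hmoved : ∃ t, σ t ≠ t) (htr : ∃ e : F, e + σ e = 1)
    (κ : W → F × F) (hinj : Function.Injective κ)
    (hmul : ∀ x y, κ (x * y) = ((κ x).1 + (κ y).1, (κ y).2 - (κ x).1 * σ (κ y).1 + (κ x).2))
    (hrange : ∀ a b : F, (∃ x, κ x = (a, b)) ↔ b + σ b + a * σ a = 0) :
    Sixty W := by
  have h2 : (2 : F) = 0 := CharTwo.two_eq_zero
  obtain ⟨hcard, hklein, hclo, hcomm, -, hq⟩ :=
    CfsgLib.UnitaryFour.props σ h16 hinv hmoved htr κ hinj hmul hrange
  haveI := hklein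
  have hone : κ 1 = (0, 0) := by
    have h := hmul 1 1
    rw [mul_one] at h
    have h1 : (κ 1).1 = 0 := by simpa using congrArg Prod.fst h
    have h2 := congrArg Prod.snd h
    simp [h1] at h2
    exact Prod.ext h1 h2
  refine ⟨hcard, IsKleinFour.card_four, fun x => ?_, fun z hz => ?_, fun x hx => ?_, fun x hx z hz => ?_⟩
  · have := hq (x : W ⧸ Subgroup.center W)
    rw [pow_two, ← QuotientGroup.mk_mul, QuotientGroup.eq_one_iff] at this
    exact this
  · exact congrArg Subtype.val (IsKleinFour.mul_self (⟨z, hz⟩ : Subgroup.center W))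
  · by_cases h1 : x = 1
    · rw [h1]; exact one_mem _
    · rw [hclo]
      exact Subgroup.subset_closure (orderOf_eq_prime (by rw [sq]; exact hx) h1)
  · obtain ⟨e, he⟩ := htr
    have hnorm : ∀ a, σ (a * σ a) = a * σ a := fun a => by rw [map_mul, hinv, mul_comm]
    have hfst : ∀ w, w ∈ Subgroup.center W → (κ w).1 = 0 := by
      intro w hw
      have hw2 : w * w = 1 := congrArg Subtype.val (IsKleinFour.mul_self (⟨w, hw⟩ : Subgroup.center W))
      have h := congrArg Prod.snd (congrArg κ hw2)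
      rw [hmul, hone] at h
      have h3 : (κ w).1 * σ (κ w).1 = 0 := by linear_combination -h + (κ w).2 * h2
      rcases mul_eq_zero.mp h3 with h4 | h4
      · exact h4
      · exact (map_eq_zero σ).mp h4
    set a := (κ x).1 with ha
    have ha0 : a ≠ 0 := fun h0 => hx (by
      rw [hclo]
      by_cases h1 : x = 1
      · rw [h1]; exact one_mem _
      refine Subgroup.subset_closure (orderOf_eq_prime ?_ h1)
      rw [sq]
      refine hinj ?_
      rw [hmul, hone, ← ha, h0]
      simp [CharTwo.add_self_eq_zero])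
    set c := (κ z).2 with hc
    have hcσ : c + σ c = 0 := by
      have := (hrange _ _).mp ⟨z, rfl⟩
      rwa [hfst z hz, zero_mul, add_zero] at this
    have hn0 : a * σ a ≠ 0 := mul_ne_zero ha0 (fun hh => ha0 ((map_eq_zero σ).mp hh))
    obtain ⟨b, hb⟩ : ∃ b, b = a * (e * (c / (a * σ a))) := ⟨_, rfl⟩
    obtain ⟨y, hy⟩ := (hrange b (e * (b * σ b))).mpr (by
      rw [map_mul, hnorm]
      linear_combination (b * σ b) * he + CharTwo.add_self_eq_zero (b * σ b))
    refine ⟨y, ?_⟩
    have hab : a * σ b + b * σ a = c := by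
      have e1 : σ (c / (a * σ a)) = c / (a * σ a) := by
        rw [map_div₀, hnorm, show σ c = c by linear_combination hcσ - c * h2]
      rw [hb, map_mul, map_mul, e1]
      have e2 : (a * σ a) * (c / (a * σ a)) = c := mul_div_cancel₀ c hn0
      linear_combination (a * σ a * (c / (a * σ a))) * he + e2
    have key : x * y = z * (y * x) := hinj (by
      rw [hmul x, hmul z, hmul y, hfst z hz, hy, ← ha, ← hc]
      refine Prod.ext (by simp [add_comm]) ?_
      simp only [zero_mul, sub_zero]
      linear_combination hab - (a * σ b) * h2)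
    rw [commutatorElement_def, key]
    group

theorem sixty (h16 : Fintype.card F = 16) (S : Sylow 2 (Cfsg.PSU 3 F 4)) :
    Sixty (S : Subgroup (Cfsg.PSU 3 F 4)) := by
  classical
  haveI : Fact (Nat.Prime 2) := ⟨Nat.prime_two⟩
  haveI : CharP F 2 := by
    obtain ⟨r, hr⟩ := CharP.exists F
    obtain ⟨f, hp, hf⟩ := FiniteField.card F r
    have : r ∣ 2 := hp.dvd_of_dvd_pow (n := 4) (by
      rw [show (2 : ℕ) ^ 4 = 16 from rfl, ← h16, hf]; exact dvd_pow_self r f.pos.ne')
    rwa [(Nat.prime_dvd_prime_iff_eq hp Nat.prime_two).mp this] at hr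
  have hK : Fintype.card F = 4 ^ 2 := by rw [h16]; norm_num
  obtain ⟨-, σ, hσ⟩ := CfsgLib.UnitaryBasic.frob_exists hK
  let c : Conj F := ⟨4, σ, hK, hσ⟩
  obtain ⟨E⟩ := exists_iso c (n := 3)
  let φ : SUs c 3 →* Cfsg.PSU 3 F 4 := (QuotientGroup.mk' (Subgroup.center (Cfsg.SU 3 F 4))).comp E.toMonoidHom
  have hker : ∀ z ∈ φ.ker, E z ∈ Subgroup.center (Cfsg.SU 3 F 4) := fun z hz => (QuotientGroup.eq_one_iff (E z)).mp hz
  have hc : Cover c 2 φ := by
    refine ⟨(QuotientGroup.mk'_surjective _).comp E.surjective, fun z hz => ?_, Nat.gcd 3 (4 + 1), by decide,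
      fun z hz => ?_⟩
    · exact Subgroup.mem_center_iff.mpr fun x => E.injective (by
        rw [map_mul, map_mul]; exact Subgroup.mem_center_iff.mp (hker z hz) (E x))
    · apply E.injective
      rw [map_pow, map_one, ← Cfsg.Agent.S0280.center_card hK 3 (by norm_num)]
      exact congrArg Subtype.val (pow_card_eq_one' (x := (⟨E z, hker z hz⟩ : Subgroup.center (Cfsg.SU 3 F 4))))
  obtain ⟨U, hU⟩ := exists_sylow c 2 hc
  have hinj : Function.Injective (φ.comp (UU c 3).subtype) := fun a b h => by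
    obtain ⟨j, hj⟩ := isPGroup_UU c 2 a
    exact Subtype.ext (eq_of_map c 2 hc b.2 (congrArg Subtype.val hj) h)
  have hrng : (φ.comp (UU c 3).subtype).range = (U : Subgroup (Cfsg.PSU 3 F 4)) := by
    rw [hU, MonoidHom.range_comp, Subgroup.range_subtype]
  let e : (S : Subgroup (Cfsg.PSU 3 F 4)) ≃* UU c 3 :=
    (Sylow.equiv S U).trans ((MulEquiv.subgroupCongr hrng.symm).trans (MonoidHom.ofInjective hinj).symm)
  have hform : ∀ A : UU c 3, A.1.1.1 1 2 = -σ (A.1.1.1 0 1) ∧
      A.1.1.1 0 2 + σ (A.1.1.1 0 2) + A.1.1.1 0 1 * σ (A.1.1.1 0 1) = 0 := by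
    intro A
    have h00 := UU_diag c A.2 (0 : Fin 3)
    have h11 := UU_diag c A.2 (1 : Fin 3)
    have h10 : A.1.1.1 1 0 = 0 := UU_below c A.2 (show (0 : Fin 3) < 1 by decide)
    have h01 := cond_apply c A.1.2 (0 : Fin 3) 1
    have h0 := cond_apply c A.1.2 (0 : Fin 3) 0
    rw [Fin.sum_univ_three, if_neg (by decide)] at h01 h0
    rw [show (0 : Fin 3).rev = 2 from rfl, show (1 : Fin 3).rev = 1 from rfl, show (2 : Fin 3).rev = 0 from rfl] at h01 h0
    change _ + _ * σ _ + _ * σ _ = _ at h01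
    change _ * σ _ + _ * σ _ + _ * σ _ = _ at h01 h0
    rw [h00, h11, h10, map_zero, map_one, one_mul, mul_one, mul_zero, add_zero] at h01
    rw [h00, map_one, one_mul, mul_one] at h0
    refine ⟨?_, by linear_combination h0⟩
    have h3 := congrArg σ h01
    rw [map_add, c.invol, map_zero] at h3
    linear_combination h3
  let κ : UU c 3 → F × F := fun A => (A.1.1.1 0 1, A.1.1.1 0 2)
  refine sixty_of_coords σ h16 c.invol c.exists_moved c.exists_trace_one (fun x => κ (e x)) ?_ (fun x y => ?_) fun a b => ?_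
  · intro x y h
    refine e.injective (Subtype.ext (SUs_ext c ?_))
    have h1 : (e x).1.1.1 0 1 = (e y).1.1.1 0 1 := congrArg Prod.fst h
    have h2 : (e x).1.1.1 0 2 = (e y).1.1.1 0 2 := congrArg Prod.snd h
    ext i j
    fin_cases i <;> fin_cases j
    · exact (UU_diag c (e x).2 0).trans (UU_diag c (e y).2 0).symm
    · exact h1
    · exact h2
    · exact (UU_below c (e x).2 (show (0 : Fin 3) < 1 by decide)).trans
        (UU_below c (e y).2 (show (0 : Fin 3) < 1 by decide)).symm
    · exact (UU_diag c (e x).2 1).trans (UU_diag c (e y).2 1).symm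
    · exact ((hform _).1.trans (congrArg (fun t => -σ t) h1)).trans (hform _).1.symm
    · exact (UU_below c (e x).2 (show (0 : Fin 3) < 2 by decide)).trans
        (UU_below c (e y).2 (show (0 : Fin 3) < 2 by decide)).symm
    · exact (UU_below c (e x).2 (show (1 : Fin 3) < 2 by decide)).trans
        (UU_below c (e y).2 (show (1 : Fin 3) < 2 by decide)).symm
    · exact (UU_diag c (e x).2 2).trans (UU_diag c (e y).2 2).symm
  · show κ (e (x * y)) = _
    rw [map_mul]
    refine Prod.ext ?_ ?_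
    · show ((e x).1.1.1 * (e y).1.1.1) 0 1 = _
      rw [Matrix.mul_apply, Fin.sum_univ_three, UU_diag c (e x).2, UU_diag c (e y).2,
        UU_below c (e y).2 (show (1 : Fin 3) < 2 by decide)]
      show _ = (e x).1.1.1 0 1 + (e y).1.1.1 0 1
      ring
    · show ((e x).1.1.1 * (e y).1.1.1) 0 2 = _
      rw [Matrix.mul_apply, Fin.sum_univ_three, UU_diag c (e x).2, UU_diag c (e y).2, (hform (e y)).1]
      show _ = (e y).1.1.1 0 2 - (e x).1.1.1 0 1 * σ ((e y).1.1.1 0 1) + (e x).1.1.1 0 2
      ring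
  · constructor
    · rintro ⟨x, hx⟩
      have h1 : (e x).1.1.1 0 1 = a := congrArg Prod.fst hx
      have h2 : (e x).1.1.1 0 2 = b := congrArg Prod.snd hx
      rw [← h1, ← h2]
      exact (hform _).2
    · intro hb
      refine ⟨e.symm ⟨r3 c a b hb, ?_⟩, ?_⟩
      · refine ⟨fun i j hij => ?_, fun i j hij => ?_⟩
        · show m3 σ a b i j = 0
          fin_cases i <;> fin_cases j <;> first | rfl | (exfalso; simp at hij)
        · show m3 σ a b i j = (1 : Matrix (Fin 3) (Fin 3) F) i j
          fin_cases i <;> fin_cases j <;> first | rfl | (exfalso; simp at hij) | simp [m3]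
      · show κ (e (e.symm _)) = _
        rw [MulEquiv.apply_symm_apply]
        rfl

end CfsgLib.SuzukiTwo
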