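import Cfsg.Agent.Lib.SuzukiTwo.Main
import Cfsg.Agent.Lib.SuzukiTwo.SixtyFour

/-!
Nonabelian 2-groups with exactly three involutions permuted transitively by an automorphism.
-/

set_option autoImplicit false
set_option linter.unusedSectionVars false

namespace CfsgLib.SuzukiTwo

open scoped commutatorElement

universe u
variable {P : Type u} [Group P] [Finite P] {k : MulAut P}

theorem klein_list {Z : Subgroup P} (hcard : Nat.card Z = 4) (hexp : ∀ z ∈ Z, z * z = 1)
    (hcomm : ∀ a ∈ Z, ∀ b : P, b * a = a * b) {u v : P} (hu : u ∈ Z) (hv : v ∈ Z) (hu1 : u ≠ 1) (hv1 : v ≠ 1)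
    (huv : u ≠ v) : ∀ z ∈ Z, z = 1 ∨ z = u ∨ z = v ∨ z = u * v := by
  classical
  intro z hz
  by_contra hno
  push Not at hno
  obtain ⟨h1, h2, h3, h4⟩ := hno
  have huv1 : u * v ≠ 1 := fun he => huv (by
    rw [eq_inv_of_mul_eq_one_left he, ← eq_inv_of_mul_eq_one_left (hexp v hv)])
  haveI := Fintype.ofFinite Z
  let s : Finset Z := {⟨1, Z.one_mem⟩, ⟨u, hu⟩, ⟨v, hv⟩, ⟨u * v, Z.mul_mem hu hv⟩, ⟨z, hz⟩}
  have hs : s.card = 5 := by
    simp only [s]
    rw [Finset.card_insert_of_notMem, Finset.card_insert_of_notMem, Finset.card_insert_of_notMem,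
      Finset.card_insert_of_notMem, Finset.card_singleton] <;>
      simp only [Finset.mem_insert, Finset.mem_singleton, Subtype.mk.injEq, not_or]
    · exact Ne.symm h4
    · exact ⟨fun he => hu1 (mul_eq_right.mp he.symm), Ne.symm h3⟩
    · exact ⟨huv, fun he => hv1 (mul_eq_left.mp he.symm), Ne.symm h2⟩
    · exact ⟨Ne.symm hu1, Ne.symm hv1, Ne.symm huv1, Ne.symm h1⟩
  have := s.card_le_univ
  rw [hs, ← Nat.card_eq_fintype_card, hcard] at this
  omega

theorem mul_mul_self_eq (hg : Good P) (a b : P) : a * b * (a * b) = a * a * (b * b) * ⁅b, a⁆ := by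
  have h1 : b * a = ⁅b, a⁆ * a * b := by simp only [commutatorElement_def]; group
  have hc := hg.commutator_mem b a
  calc a * b * (a * b) = a * (b * a) * b := by group
    _ = a * (⁅b, a⁆ * a * b) * b := by rw [h1]
    _ = (a * ⁅b, a⁆) * (a * (b * b)) := by group
    _ = ⁅b, a⁆ * (a * (a * (b * b))) := by rw [Subgroup.mem_center_iff.mp hc a]; group
    _ = (a * (a * (b * b))) * ⁅b, a⁆ := (Subgroup.mem_center_iff.mp hc _).symm
    _ = _ := by group

theorem Hyp.card_center_eq (h : Hyp P k) (hg : Good P) (hfour : Nat.card {x : P // x * x = 1} = 4) :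
    Nat.card (Subgroup.center P) = 4 := by
  rw [← hfour]
  exact Nat.card_congr
    { toFun := fun z => ⟨z.1, hg.2 z.1 z.2⟩
      invFun := fun x => ⟨x.1, h.central x.2⟩
      left_inv := fun z => rfl
      right_inv := fun x => rfl }

/-- All nontrivial fibres of squaring have the same size. -/
theorem Hyp.three_fibres (h : Hyp P k) (hg : Good P) (hfour : Nat.card {x : P // x * x = 1} = 4) :
    ∃ f : ℕ, Nat.card P = 4 + 3 * f ∧ ∀ u : P, u ≠ 1 → u * u = 1 → Nat.card {x : P // x * x = u} = f := by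
  classical
  obtain ⟨u, v, huv, hu1, hu, hv1, hv⟩ := h.two
  have hcongr : ∀ a b : P, a ≠ 1 → a * a = 1 → b ≠ 1 → b * b = 1 →
      Nat.card {x : P // x * x = a} = Nat.card {x : P // x * x = b} := by
    intro a b ha1 ha hb1 hb
    obtain ⟨i, hi⟩ := h.trans a b ha1 ha hb1 hb
    exact Nat.card_congr (Equiv.subtypeEquiv (k ^ i).toEquiv fun x => by
      show x * x = a ↔ (k ^ i) x * (k ^ i) x = b
      rw [← map_mul, ← hi, (k ^ i).injective.eq_iff])
  refine ⟨_, ?_, fun a ha1 ha => hcongr a u ha1 ha hu1 hu⟩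
  have hZ := klein_list (h.card_center_eq hg hfour) hg.2 (fun a ha b => Subgroup.mem_center_iff.mp ha b)
    (h.central hu) (h.central hv) hu1 hv1 huv
  haveI := Fintype.ofFinite P
  have hsum : Nat.card P = ∑ z ∈ ({1, u, v, u * v} : Finset P), Nat.card {x : P // x * x = z} := by
    rw [Nat.card_eq_fintype_card, ← Finset.card_univ,
      Finset.card_eq_sum_card_fiberwise (f := fun x : P => x * x) (t := {1, u, v, u * v})]
    · refine Finset.sum_congr rfl fun z _ => ?_
      rw [Nat.card_eq_fintype_card, Fintype.card_subtype]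
    · intro x _
      simp only [Finset.coe_insert, Finset.coe_singleton, Set.mem_insert_iff, Set.mem_singleton_iff]
      exact hZ _ (hg.1 x)
  have huv2 : u * v ≠ 1 := fun he => huv (by
    rw [eq_inv_of_mul_eq_one_left he, ← eq_inv_of_mul_eq_one_left hv])
  have huvu : u * v * (u * v) = 1 := hg.2 _ (mul_mem (h.central hu) (h.central hv))
  rw [Finset.sum_insert, Finset.sum_insert, Finset.sum_insert, Finset.sum_singleton] at hsum
  · rw [hsum, hfour, hcongr v u hv1 hv hu1 hu, hcongr _ u huv2 huvu hu1 hu]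
    omega
  · simp only [Finset.mem_singleton]
    exact fun he => hu1 (mul_eq_right.mp he.symm)
  · simp only [Finset.mem_insert, Finset.mem_singleton, not_or]
    exact ⟨huv, fun he => hv1 (mul_eq_left.mp he.symm)⟩
  · simp only [Finset.mem_insert, Finset.mem_singleton, not_or]
    exact ⟨Ne.symm hu1, Ne.symm hv1, Ne.symm huv2⟩

/-- Such a group has order at most `128`. -/
theorem Hyp.card_le (h : Hyp P k) (hg : Good P) (hne : ∃ x y : P, x * y ≠ y * x)
    (hfour : Nat.card {x : P // x * x = 1} = 4) : Nat.card P ≤ 128 := by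
  classical
  have hcZ := h.card_center_eq hg hfour
  set Z := Subgroup.center P with hZd
  obtain ⟨x, x', hxx⟩ := hne
  have hxZ : x ∉ Z := fun hh => hxx (Subgroup.mem_center_iff.mp hh x').symm
  have hx2 : x * x ≠ 1 := fun he => hxZ (h.central he)
  set C := Subgroup.centralizer ({x} : Set P) with hC
  have hidx : Nat.card P ≤ 4 * Nat.card C := by
    let τ : P →* Z :=
      { toFun := fun y => ⟨⁅x, y⁆, hg.commutator_mem x y⟩
        map_one' := Subtype.ext (commutatorElement_one_right x)
        map_mul' := fun a b => Subtype.ext (commutator_right_central (hg.commutator_mem x b)) }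
    have h1 := Subgroup.card_mul_index τ.ker
    rw [Subgroup.index_ker] at h1
    have h2 : Nat.card τ.range ≤ 4 := hcZ ▸ Subgroup.card_le_card_group _
    have h3 : Nat.card τ.ker ≤ Nat.card C := Subgroup.card_le_of_le fun y hy =>
      Subgroup.mem_centralizer_singleton_iff.mpr
        (commutatorElement_eq_one_iff_mul_comm.mp (congrArg Subtype.val (MonoidHom.mem_ker.mp hy))).symm
    rw [← h1, mul_comm]
    exact Nat.mul_le_mul h2 h3
  have hsubsq : ∀ {S : Set P}, (Z : Set P) ⊆ S → ∀ g : P, g * g ∈ Subgroup.closure S ∧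
      ∀ s ∈ S, ⁅g, s⁆ ∈ Subgroup.closure S := fun {S} hS g =>
    ⟨Subgroup.subset_closure (hS (hg.1 g)), fun s _ => Subgroup.subset_closure (hS (hg.commutator_mem g s))⟩
  set Q := Subgroup.closure (insert x (Z : Set P)) with hQ
  have hQ8 : Nat.card Q ≤ 8 := by
    refine (card_closure_insert (hsubsq subset_rfl x).1 (hsubsq subset_rfl x).2).trans ?_
    rw [Subgroup.closure_eq, hcZ]
  have hZQ : ∀ z ∈ Z, z ∈ Q := fun z hz => Subgroup.subset_closure (Or.inr hz)
  have hxQ : x ∈ Q := Subgroup.subset_closure (Or.inl rfl)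
  by_cases hy : ∀ y ∈ C, y ∈ Q
  · have := Subgroup.card_le_of_le (show C ≤ Q from hy)
    omega
  push Not at hy
  obtain ⟨y, hyC, hyQ⟩ := hy
  have hout : ∀ g ∈ C, g ∉ Q → g * g ≠ 1 ∧ g * g ≠ x * x := by
    intro g hgC hgQ
    refine ⟨fun he => hgQ (hZQ g (h.central he)), fun he => hgQ ?_⟩
    have h1 : g * x * (g * x) = 1 := by
      rw [mul_mul_self_eq hg, he, hg.2 _ (hg.1 x), one_mul]
      exact commutatorElement_eq_one_iff_mul_comm.mpr (Subgroup.mem_centralizer_singleton_iff.mp hgC).symm
    have := Q.mul_mem (hZQ _ (h.central h1)) (Q.inv_mem hxQ)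
    rwa [mul_inv_cancel_right] at this
  obtain ⟨hy1, hyx⟩ := hout y hyC hyQ
  have hlist := klein_list hcZ hg.2 (fun a ha b => Subgroup.mem_center_iff.mp ha b) (hg.1 x) (hg.1 y) hx2 hy1
    (Ne.symm hyx)
  have hothers : ∀ g ∈ C, g ∉ Q → g * g = y * y ∨ g * g = x * x * (y * y) := by
    intro g hgC hgQ
    obtain ⟨h1, h2⟩ := hout g hgC hgQ
    rcases hlist _ (hg.1 g) with h3 | h3 | h3 | h3
    · exact absurd h3 h1
    · exact absurd h3 h2
    · exact Or.inl h3
    · exact Or.inr h3
  set R := Subgroup.closure (insert y (insert x (Z : Set P))) with hR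
  have hR16 : Nat.card R ≤ 16 := by
    refine (card_closure_insert (hsubsq (Set.subset_insert _ _) y).1 (hsubsq (Set.subset_insert _ _) y).2).trans ?_
    rw [← hQ]
    omega
  have hQR : Q ≤ R := Subgroup.closure_mono (Set.subset_insert _ _)
  have hyR : y ∈ R := Subgroup.subset_closure (Or.inl rfl)
  -- commutators with `y` avoid the line of `x * x`
  have hcom : ∀ v ∈ C, v ∉ R → ⁅v, y⁆ = y * y ∨ ⁅v, y⁆ = x * x * (y * y) := by
    intro v hvC hvR
    have hvQ : v ∉ Q := fun hh => hvR (hQR hh)
    have hyvQ : y * v ∉ Q := fun hh => hvR (by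
      have := R.mul_mem (R.inv_mem hyR) (hQR hh)
      rwa [inv_mul_cancel_left] at this)
    have e := mul_mul_self_eq hg y v
    have hyy := hg.2 _ (hg.1 y)
    have hxxc := hg.2 _ (hg.1 x)
    have hyc := fun g : P => Subgroup.mem_center_iff.mp (hg.1 y) g
    have hcc : ⁅v, y⁆ = y * y * (v * v) * (y * v * (y * v)) := by
      rw [e]
      have h1 := hg.2 _ (mul_mem (hg.1 y) (hg.1 v))
      rw [← mul_assoc (y * y * (v * v)), h1, one_mul]
    rcases hothers v hvC hvQ with h1 | h1 <;> rcases hothers _ (C.mul_mem hyC hvC) hyvQ with h2 | h2 <;>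
      rw [h1, h2] at hcc
    · left; rw [hcc, hyy, one_mul]
    · right; rw [hcc, hyy, one_mul]
    · right
      rw [hcc, show y * y * (x * x * (y * y)) * (y * y) = y * y * (x * x) * ((y * y) * (y * y)) by group, hyy,
        mul_one, hyc]
    · left
      rw [hcc, show y * y * (x * x * (y * y)) * (x * x * (y * y)) = y * y * ((x * x * (y * y)) * (x * x * (y * y))) by
        group, hg.2 _ (mul_mem (hg.1 x) (hg.1 y)), mul_one]
  have hC2 : Nat.card C ≤ 2 * Nat.card R := by
    by_cases hv : ∀ v ∈ C, v ∈ R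
    · have := Subgroup.card_le_of_le (show C ≤ R from hv)
      omega
    push Not at hv
    obtain ⟨v, hvC, hvR⟩ := hv
    refine (Subgroup.card_le_of_le (show C ≤ Subgroup.closure (insert v (insert y (insert x (Z : Set P)))) from
      fun w hwC => ?_)).trans (card_closure_insert
        (hsubsq ((Set.subset_insert _ _).trans (Set.subset_insert _ _)) v).1
        (hsubsq ((Set.subset_insert _ _).trans (Set.subset_insert _ _)) v).2)
    have hRV : R ≤ Subgroup.closure (insert v (insert y (insert x (Z : Set P)))) :=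
      Subgroup.closure_mono (Set.subset_insert _ _)
    by_cases hwR : w ∈ R
    · exact hRV hwR
    by_cases hvw : v * w ∈ R
    · have := mul_mem (InvMemClass.inv_mem (Subgroup.subset_closure (Set.mem_insert v _))) (hRV hvw)
      rwa [inv_mul_cancel_left] at this
    exfalso
    have h3 := hcom _ (C.mul_mem hvC hwC) hvw
    rw [commutator_left_central (hg.commutator_mem w y)] at h3
    have hyy := hg.2 _ (hg.1 y)
    have hxy := hg.2 _ (mul_mem (hg.1 x) (hg.1 y))
    have hyc := fun g : P => Subgroup.mem_center_iff.mp (hg.1 y) g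
    have e1 : x * x * (y * y) * (y * y) = x * x := by rw [mul_assoc, hyy, mul_one]
    have e2 : y * y * (x * x * (y * y)) = x * x := by rw [← hyc, e1]
    have hxxyy : x * x * (y * y) ≠ 1 := fun he => hyx (by
      rw [eq_inv_of_mul_eq_one_right he, ← eq_inv_of_mul_eq_one_right (hg.2 _ (hg.1 x))])
    have hxyne : x * x ≠ x * x * (y * y) := fun he => hy1 (mul_eq_left.mp he.symm)
    rcases hcom v hvC hvR with h1 | h1 <;> rcases hcom w hwC hwR with h2 | h2 <;>
      simp only [h1, h2, hyy, hxy, e1, e2] at h3 <;> rcases h3 with h4 | h4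
    all_goals first | exact hy1 h4.symm | exact hxxyy h4.symm | exact hyx h4.symm | exact hxyne h4
  omega

/-- The order is `64`. -/
theorem Hyp.card_eq_sixty (h : Hyp P k) (hg : Good P) (hne : ∃ x y : P, x * y ≠ y * x)
    (hfour : Nat.card {x : P // x * x = 1} = 4) : Nat.card P = 64 := by
  classical
  obtain ⟨f, hf, hfib⟩ := h.three_fibres hg hfour
  have hle := h.card_le hg hne hfour
  have hcZ := h.card_center_eq hg hfour
  obtain ⟨n, hn⟩ := (IsPGroup.iff_card (p := 2) (G := P)).mp h.pgroup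
  have hn7 : n ≤ 7 := by
    by_contra hh
    have : 2 ^ 8 ≤ 2 ^ n := Nat.pow_le_pow_right (by norm_num) (by omega)
    omega
  obtain ⟨a, b, hab⟩ := hne
  have hcen : Subgroup.closure (insert a (Subgroup.center P : Set P)) ≤ Subgroup.centralizer ({a} : Set P) := by
    refine (Subgroup.closure_le _).mpr ?_
    rintro v (rfl | hv)
    · exact Subgroup.mem_centralizer_singleton_iff.mpr rfl
    · exact Subgroup.mem_centralizer_singleton_iff.mpr (Subgroup.mem_center_iff.mp hv a).symm
  have hbC : b ∉ Subgroup.closure (insert a (Subgroup.center P : Set P)) := fun hh => hab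
    (Subgroup.mem_centralizer_singleton_iff.mp (hcen hh)).symm
  have haZ : a ∉ Subgroup.center P := fun hh => hab (Subgroup.mem_center_iff.mp hh b).symm
  have h8 : 8 ≤ Nat.card (Subgroup.closure (insert a (Subgroup.center P : Set P))) := by
    have := le_card_closure_insert (S := (Subgroup.center P : Set P)) (g := a) (by rwa [Subgroup.closure_eq])
    rw [Subgroup.closure_eq, hcZ] at this
    omega
  have h16 : 16 ≤ Nat.card P := by
    have := (le_card_closure_insert hbC).trans (Subgroup.card_le_card_group _)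
    omega
  by_contra h64
  have h4 : n = 4 := by
    interval_cases n <;> first | rfl | (exfalso; omega)
  subst h4
  have hf4 : f = 4 := by omega
  have hbZ : b ∉ Subgroup.center P := fun hh => hab (Subgroup.mem_center_iff.mp hh a)
  have hcoset : ∀ g : P, ∀ z ∈ Subgroup.center P, g * z * (g * z) = g * g := fun g z hz => by
    rw [mul_mul_self_eq hg, hg.2 z hz, mul_one, commutator_center_left hz, mul_one]
  have hdist : ∀ g g' : P, g ∉ Subgroup.center P → g⁻¹ * g' ∉ Subgroup.center P → g * g ≠ g' * g' := by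
    intro g g' hgZ hgg he
    let φ₁ : Subgroup.center P → {x : P // x * x = g * g} := fun z => ⟨g * z.1, hcoset g z.1 z.2⟩
    let φ₂ : Subgroup.center P → {x : P // x * x = g * g} := fun z => ⟨g' * z.1, by rw [hcoset g' z.1 z.2, he]⟩
    have hinj : Function.Injective (Sum.elim φ₁ φ₂) := by
      refine Function.Injective.sumElim (fun z w hzw => Subtype.ext (mul_left_cancel (congrArg Subtype.val hzw)))
        (fun z w hzw => Subtype.ext (mul_left_cancel (congrArg Subtype.val hzw))) fun z w hzw => hgg ?_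
      have hv : g * (z : P) = g' * w := congrArg Subtype.val hzw
      rw [show g⁻¹ * g' = g⁻¹ * (g' * w) * (w : P)⁻¹ by group, ← hv, inv_mul_cancel_left]
      exact mul_mem z.2 (InvMemClass.inv_mem w.2)
    have := Nat.card_le_card_of_injective _ hinj
    rw [Nat.card_sum, hcZ, hfib _ (fun he1 => hgZ (h.central he1)) (hg.2 _ (hg.1 g))] at this
    omega
  have hA : ∀ v ∈ Subgroup.center P, v ∈ Subgroup.closure (insert a (Subgroup.center P : Set P)) :=
    fun v hv => Subgroup.subset_closure (Or.inr hv)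
  have haA : a ∈ Subgroup.closure (insert a (Subgroup.center P : Set P)) := Subgroup.subset_closure (Or.inl rfl)
  have d1 := hdist a b haZ fun hh => hbC (by
    have := mul_mem haA (hA _ hh)
    rwa [mul_inv_cancel_left] at this)
  have d2 := hdist a (a * b) haZ (by rwa [inv_mul_cancel_left])
  have d3 := hdist b (a * b) hbZ fun hh => haZ (by
    have e : a = b * (b⁻¹ * (a * b)) * b⁻¹ := by group
    rw [e, conj_center hh]
    exact hh)
  have e := mul_mul_self_eq hg a b
  have hab1 : a * b * (a * b) ≠ 1 := fun he => hbC (by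
    have := mul_mem (InvMemClass.inv_mem haA) (hA _ (h.central he))
    rwa [inv_mul_cancel_left] at this)
  have hlist := klein_list hcZ hg.2 (fun a ha b => Subgroup.mem_center_iff.mp ha b) (hg.1 a) (hg.1 b)
    (fun he => haZ (h.central he)) (fun he => hbZ (h.central he)) d1
  rcases hlist _ (hg.1 (a * b)) with h1 | h1 | h1 | h1
  · exact hab1 h1
  · exact d2 h1.symm
  · exact d3 h1.symm
  · rw [h1] at e
    exact hab (commutatorElement_eq_one_iff_mul_comm.mp (mul_eq_left.mp e.symm)).symm

/-- Every noncentral element has every central element as a commutator. -/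
theorem Hyp.sixty (h : Hyp P k) (hg : Good P) (hne : ∃ x y : P, x * y ≠ y * x)
    (hfour : Nat.card {x : P // x * x = 1} = 4) : Sixty P := by
  classical
  have hcard := h.card_eq_sixty hg hne hfour
  have hcZ := h.card_center_eq hg hfour
  obtain ⟨f, hf, hfib⟩ := h.three_fibres hg hfour
  have hf20 : f = 20 := by omega
  refine ⟨hcard, hcZ, hg.1, hg.2, fun x hx => h.central hx, fun x hx => ?_⟩
  set Z := Subgroup.center P with hZd
  have hsymm : ∀ a b : P, ⁅b, a⁆ = ⁅a, b⁆ := fun a b => by
    rw [← commutatorElement_inv, inv_eq_of_mul_eq_one_left]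
    exact hg.2 _ (hg.commutator_mem a b)
  by_contra hno
  push Not at hno
  obtain ⟨w, hw, hwno⟩ := hno
  -- the image lies in a line
  obtain ⟨z, hz, hz1, himg⟩ : ∃ z ∈ Z, z ≠ 1 ∧ ∀ g : P, ⁅x, g⁆ = 1 ∨ ⁅x, g⁆ = z := by
    by_cases hex : ∀ g : P, ⁅x, g⁆ = 1
    · exact absurd (Subgroup.mem_center_iff.mpr fun g => (commutatorElement_eq_one_iff_mul_comm.mp (hex g)).symm) hx
    push Not at hex
    obtain ⟨g₀, hg₀⟩ := hex
    refine ⟨_, hg.commutator_mem x g₀, hg₀, fun g => ?_⟩
    have hw1 : w ≠ 1 := fun he => hwno 1 (by rw [he, commutatorElement_one_right])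
    have hlist := klein_list hcZ hg.2 (fun a ha b => Subgroup.mem_center_iff.mp ha b) (hg.commutator_mem x g₀) hw
      hg₀ hw1 (hwno g₀) _ (hg.commutator_mem x g)
    rcases hlist with h1 | h1 | h1 | h1
    · exact Or.inl h1
    · exact Or.inr h1
    · exact absurd h1 (hwno g)
    · exfalso
      refine hwno (g₀ * g) ?_
      rw [commutator_right_central (hg.commutator_mem x g), h1, ← mul_assoc, hg.2 _ (hg.commutator_mem x g₀), one_mul]
  -- its square spans that line
  have hxx : x * x = z := by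
    by_contra hne'
    have hx2 : x * x ≠ 1 := fun he => hx (h.central he)
    have hlist := klein_list hcZ hg.2 (fun a ha b => Subgroup.mem_center_iff.mp ha b) hz (hg.1 x) hz1 hx2 (Ne.symm hne')
    have hmap : ∀ g : P, (g * g = x * x ∨ g * g = z * (x * x)) → g * x * (g * x) = 1 ∨ g * x * (g * x) = z := by
      intro g hgg
      have hxxc := hg.2 _ (hg.1 x)
      have hzz := hg.2 z hz
      have hsq : g * g * (x * x) = 1 ∨ g * g * (x * x) = z := by
        rcases hgg with h1 | h1
        · left; rw [h1, hxxc]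
        · right; rw [h1, mul_assoc, hxxc, mul_one]
      rw [mul_mul_self_eq hg]
      rcases hsq with h1 | h1 <;> rcases himg g with h2 | h2 <;> rw [h1, h2]
      · left; rw [one_mul]
      · right; rw [one_mul]
      · right; rw [mul_one]
      · left; rw [hzz]
    have hzxx : z * (x * x) ≠ 1 := fun he => hne' (by
      rw [eq_inv_of_mul_eq_one_right he, ← eq_inv_of_mul_eq_one_right (hg.2 z hz)])
    have hzxx2 : z * (x * x) * (z * (x * x)) = 1 := hg.2 _ (mul_mem hz (hg.1 x))
    have hne2 : x * x ≠ z * (x * x) := fun he => hz1 (mul_eq_right.mp he.symm)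
    let F : {g : P // g * g = x * x} ⊕ {g : P // g * g = z * (x * x)} → {g : P // g * g = 1} ⊕ {g : P // g * g = z} :=
      fun t =>
        let g : P := Sum.elim Subtype.val Subtype.val t
        if h1 : g * x * (g * x) = 1 then Sum.inl ⟨g * x, h1⟩
        else Sum.inr ⟨g * x, (hmap g (by rcases t with t | t; exact Or.inl t.2; exact Or.inr t.2)).resolve_left h1⟩
    have hval : ∀ t, Sum.elim Subtype.val Subtype.val (F t) = (Sum.elim Subtype.val Subtype.val t : P) * x := by
      intro t
      simp only [F]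
      split <;> rfl
    have hF : Function.Injective F := by
      intro s t hst
      have e := congrArg (Sum.elim Subtype.val Subtype.val) hst
      rw [hval, hval] at e
      have e' := mul_right_cancel e
      rcases s with ⟨s, hs⟩ | ⟨s, hs⟩ <;> rcases t with ⟨t, ht⟩ | ⟨t, ht⟩ <;> simp only [Sum.elim_inl, Sum.elim_inr] at e' <;>
        subst e'
      · rfl
      · exact absurd (hs.symm.trans ht) hne2
      · exact absurd (ht.symm.trans hs) hne2
      · rfl
    have := Nat.card_le_card_of_injective F hF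
    rw [Nat.card_sum, Nat.card_sum, hfour, hfib _ hx2 (hg.2 _ (hg.1 x)), hfib _ hzxx hzxx2,
      hfib z hz1 (hg.2 z hz)] at this
    omega
  -- conjugates of `x`
  have htr : ∀ t : P, t ≠ 1 → t * t = 1 → ∃ r : P, r * r = t ∧ ∀ g : P, ⁅r, g⁆ = 1 ∨ ⁅r, g⁆ = t := by
    intro t ht1 ht
    obtain ⟨i, hi⟩ := h.trans z t hz1 (hg.2 z hz) ht1 ht
    refine ⟨(k ^ i) x, by rw [← map_mul, hxx, hi], fun g => ?_⟩
    obtain ⟨g, rfl⟩ := (k ^ i).surjective g
    rw [← map_commutatorElement]
    rcases himg g with h1 | h1 <;> rw [h1]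
    · exact Or.inl (map_one _)
    · exact Or.inr hi
  obtain ⟨z', hz', hz'1, hzz'⟩ : ∃ z' ∈ Z, z' ≠ 1 ∧ z' ≠ z := by
    obtain ⟨a, b, hab, ha1, ha, hb1, hb⟩ := h.two
    by_cases haz : a = z
    · exact ⟨b, h.central hb, hb1, fun he => hab (haz.trans he.symm)⟩
    · exact ⟨a, h.central ha, ha1, haz⟩
  obtain ⟨r', hr', hr'img⟩ := htr z' hz'1 (hg.2 _ hz')
  have hzz1 : z * z' ≠ 1 := fun he => hzz' (by
    rw [eq_inv_of_mul_eq_one_right he, ← eq_inv_of_mul_eq_one_right (hg.2 z hz)])
  obtain ⟨r'', hr'', hr''img⟩ := htr (z * z') hzz1 (hg.2 _ (mul_mem hz hz'))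
  -- different lines meet trivially
  have hmeet : ∀ {a b : P}, a ≠ b → a ≠ 1 → ∀ {e : P}, (e = 1 ∨ e = a) → (e = 1 ∨ e = b) → e = 1 := by
    intro a b hab ha1 e h1 h2
    rcases h1 with h1 | h1 <;> rcases h2 with h2 | h2
    all_goals first | exact h1 | exact h2 | exact absurd (h1.symm.trans h2) hab
  have hzne : z ≠ z * z' := fun he => hz'1 (mul_eq_left.mp he.symm)
  have hz'ne : z' ≠ z * z' := fun he => hz1 (mul_eq_right.mp he.symm)
  have c1 : ⁅x, r'⁆ = 1 := hmeet (Ne.symm hzz') hz1 (himg r') (by rw [← hsymm]; exact hr'img x)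
  have c2 : ⁅r'', x⁆ = 1 := hmeet (Ne.symm hzne) hzz1 (hr''img x) (by rw [← hsymm]; exact himg r'')
  have c3 : ⁅r'', r'⁆ = 1 := hmeet (Ne.symm hz'ne) hzz1 (hr''img r') (by rw [← hsymm]; exact hr'img r'')
  have hxc : x * x * (r' * r') = z * z' := by rw [hxx, hr']
  -- the common centraliser of `x` and `r'`
  set R := Subgroup.closure (insert r' (insert x (Z : Set P))) with hR
  have hxR : x ∈ R := Subgroup.subset_closure (Or.inr (Or.inl rfl))
  have hr'R : r' ∈ R := Subgroup.subset_closure (Or.inl rfl)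
  have hZR : ∀ v ∈ Z, v ∈ R := fun v hv => Subgroup.subset_closure (Or.inr (Or.inr hv))
  have hrr : x * r' * (x * r') = z * z' := by
    rw [mul_mul_self_eq hg, hxc, hsymm, c1, mul_one]
  have hkey : ∀ y : P, ⁅y, x⁆ = 1 → ⁅y, r'⁆ = 1 → ∀ s : P, (s = 1 ∨ s = x ∨ s = r' ∨ s = x * r') → y * y = s * s →
      y * s ∈ Z := by
    intro y h1 h2 s hs he
    apply h.central
    have hcs : ⁅s, y⁆ = 1 := by
      rcases hs with rfl | rfl | rfl | rfl
      · exact commutatorElement_one_left y
      · rw [hsymm]; exact h1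
      · rw [hsymm]; exact h2
      · rw [commutator_left_central (hg.commutator_mem r' y), hsymm y r', h2, hsymm y x, h1, one_mul]
    rw [mul_mul_self_eq hg, he, hcs, mul_one]
    exact hg.2 _ (hg.1 s)
  have hall : ∀ y : P, ⁅y, x⁆ = 1 → ⁅y, r'⁆ = 1 → y ∈ R := by
    intro y h1 h2
    obtain ⟨s, hs, he⟩ : ∃ s : P, (s = 1 ∨ s = x ∨ s = r' ∨ s = x * r') ∧ y * y = s * s := by
      rcases klein_list hcZ hg.2 (fun a ha b => Subgroup.mem_center_iff.mp ha b) hz hz' hz1 hz'1 (Ne.symm hzz') _
        (hg.1 y) with h3 | h3 | h3 | h3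
      · exact ⟨1, Or.inl rfl, by rw [h3, one_mul]⟩
      · exact ⟨x, Or.inr (Or.inl rfl), by rw [h3, hxx]⟩
      · exact ⟨r', Or.inr (Or.inr (Or.inl rfl)), by rw [h3, hr']⟩
      · exact ⟨x * r', Or.inr (Or.inr (Or.inr rfl)), by rw [h3, hrr]⟩
    have hsR : s ∈ R := by
      rcases hs with rfl | rfl | rfl | rfl
      exacts [R.one_mem, hxR, hr'R, R.mul_mem hxR hr'R]
    have := R.mul_mem (hZR _ (hkey y h1 h2 s hs he)) (R.inv_mem hsR)
    rwa [mul_inv_cancel_right] at this
  have hr''Z : r'' * (x * r') ∈ Z := hkey r'' c2 c3 _ (Or.inr (Or.inr (Or.inr rfl))) (hr''.trans hrr.symm)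
  have hsame : ∀ g : P, ⁅x, g⁆ = 1 → ⁅r', g⁆ = 1 := by
    intro g h1
    have h2 : ⁅r'' * (x * r'), g⁆ = 1 := commutator_center_left hr''Z g
    rw [commutator_left_central (hg.commutator_mem _ g), commutator_left_central (hg.commutator_mem _ g), h1,
      mul_one] at h2
    refine hmeet hz'ne hz'1 (hr'img g) ?_
    rw [eq_inv_of_mul_eq_one_left h2,
      inv_eq_of_mul_eq_one_left (hg.2 _ (hg.commutator_mem r'' g))]
    exact hr''img g
  -- counting
  let τ : P →* Z :=
    { toFun := fun y => ⟨⁅x, y⁆, hg.commutator_mem x y⟩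
      map_one' := Subtype.ext (commutatorElement_one_right x)
      map_mul' := fun a b => Subtype.ext (commutator_right_central (hg.commutator_mem x b)) }
  have h1 := Subgroup.card_mul_index τ.ker
  rw [Subgroup.index_ker] at h1
  have h2 : Nat.card τ.range ≤ 2 := by
    refine (Nat.card_le_card_of_injective (fun v : τ.range => decide ((v.1 : P) = 1)) ?_).trans (by simp)
    rintro ⟨⟨a, ha⟩, g, hga⟩ ⟨⟨b, hb⟩, g', hgb⟩ hab
    have e1 : ⁅x, g⁆ = a := congrArg Subtype.val hga
    have e2 : ⁅x, g'⁆ = b := congrArg Subtype.val hgb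
    have hab' : a = 1 ↔ b = 1 := by simpa using hab
    refine Subtype.ext (Subtype.ext ?_)
    show a = b
    rcases himg g with h4 | h4 <;> rcases himg g' with h5 | h5 <;> rw [e1] at h4 <;> rw [e2] at h5
    · rw [h4, h5]
    · exact absurd (h5.symm.trans (hab'.mp h4)) hz1
    · exact absurd (h4.symm.trans (hab'.mpr h5)) hz1
    · rw [h4, h5]
  have h3 : Nat.card τ.ker ≤ 16 := by
    refine (Subgroup.card_le_of_le (show τ.ker ≤ R from fun y hy => ?_)).trans ?_
    · have hy' : ⁅x, y⁆ = 1 := congrArg Subtype.val (MonoidHom.mem_ker.mp hy)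
      exact hall y (by rw [hsymm]; exact hy') (by rw [hsymm]; exact hsame y hy')
    · refine (card_closure_insert (S := insert x (Z : Set P)) (g := r') (Subgroup.subset_closure (Or.inr (hg.1 r')))
        fun s _ => Subgroup.subset_closure (Or.inr (hg.commutator_mem r' s))).trans ?_
      have := card_closure_insert (S := (Z : Set P)) (g := x) (Subgroup.subset_closure (hg.1 x))
        fun s _ => Subgroup.subset_closure (hg.commutator_mem x s)
      rw [Subgroup.closure_eq, hcZ] at this
      omega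
  have := Nat.mul_le_mul h3 h2
  omega

end CfsgLib.SuzukiTwo
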