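import Cfsg.Agent.Lib.SuzukiTwo.Basic

/-!
Abelian 2-groups of rank two with an automorphism transitive on involutions are homocyclic.
-/

set_option autoImplicit false
set_option linter.unusedSectionVars false

namespace CfsgLib.SuzukiTwo

universe u
variable {P : Type u} [Group P] [Finite P] {k : MulAut P}

theorem zmod_two_torsion {f : ℕ} (x : ZMod (2 ^ (f + 1))) (hx : x + x = 0) :
    x = 0 ∨ x = ((2 ^ f : ℕ) : ZMod (2 ^ (f + 1))) := by
  haveI : NeZero (2 ^ (f + 1)) := ⟨pow_ne_zero _ two_ne_zero⟩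
  have hlt := ZMod.val_lt x
  have h : (2 ^ (f + 1)) ∣ x.val + x.val := by
    rw [← ZMod.natCast_eq_zero_iff, Nat.cast_add, ZMod.natCast_zmod_val]
    exact hx
  obtain ⟨c, hc⟩ := h
  have e : 2 ^ (f + 1) = 2 ^ f * 2 := pow_succ 2 f
  rcases c with _ | _ | c
  · left
    exact (ZMod.val_eq_zero x).mp (by omega)
  · right
    have : x.val = 2 ^ f := by omega
    rw [← this, ZMod.natCast_zmod_val]
  · exfalso
    have : 2 ^ (f + 1) * 2 ≤ 2 ^ (f + 1) * (c + 1 + 1) := Nat.mul_le_mul_left _ (by omega)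
    omega

/-- Abelian case with exactly three involutions. -/
theorem Hyp.homocyclic (h : Hyp P k) (hcomm : ∀ a b : P, Commute a b)
    (hfour : Nat.card {x : P // x * x = 1} = 4) :
    ∃ n : ℕ, 1 ≤ n ∧ Nonempty (P ≃* Multiplicative (ZMod (2 ^ n) × ZMod (2 ^ n))) := by
  classical
  haveI : Fact (Nat.Prime 2) := ⟨Nat.prime_two⟩
  have hex : ∃ j : ℕ, ∀ c : P, c ^ 2 ^ j = 1 := by
    obtain ⟨n, hn⟩ := (IsPGroup.iff_card (p := 2) (G := P)).mp h.pgroup
    exact ⟨n, fun z => by rw [← hn, pow_card_eq_one']⟩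
  obtain ⟨f, hf⟩ : ∃ f, Nat.find hex = f + 1 := by
    refine ⟨Nat.find hex - 1, ?_⟩
    have h1 : Nat.find hex ≠ 0 := fun h0 => by
      obtain ⟨x, -, -, hx1, -⟩ := h.two
      have := Nat.find_spec hex x
      rw [h0, pow_zero, pow_one] at this
      exact hx1 this
    omega
  have hexp : ∀ c : P, c ^ 2 ^ f * c ^ 2 ^ f = 1 := fun z => by
    rw [← pow_add, ← two_mul, ← pow_succ', ← hf]
    exact Nat.find_spec hex z
  obtain ⟨a, ha⟩ : ∃ a : P, a ^ 2 ^ f ≠ 1 := by
    by_contra hno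
    push Not at hno
    exact Nat.find_min hex (by omega : f < Nat.find hex) hno
  obtain ⟨v, hv, hv1, hva⟩ : ∃ v : P, v * v = 1 ∧ v ≠ 1 ∧ v ≠ a ^ 2 ^ f := by
    obtain ⟨x, y, hxy, hx1, hx, hy1, hy⟩ := h.two
    by_cases hxa : x = a ^ 2 ^ f
    · exact ⟨y, hy, hy1, fun he => hxy (hxa.trans he.symm)⟩
    · exact ⟨x, hx, hx1, hxa⟩
  obtain ⟨b, -, hb⟩ := h.power_surjective (A := ⊤) (fun _ _ => trivial) (e := f) (fun c _ => hexp c) ⟨a, trivial, ha⟩ hv
  set u := a ^ 2 ^ f with hu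
  have huv : u * v ≠ 1 := fun he => hva (by
    rw [eq_inv_of_mul_eq_one_right he, ← eq_inv_of_mul_eq_one_right (hexp a)])
  -- the four elements
  have hΩ : ∀ x : P, x * x = 1 → x = 1 ∨ x = u ∨ x = v ∨ x = u * v := by
    intro x hx
    by_contra hno
    push Not at hno
    obtain ⟨h1, h2, h3, h4⟩ := hno
    haveI := Fintype.ofFinite {x : P // x * x = 1}
    have huv2 : u * v * (u * v) = 1 := by
      rw [show u * v * (u * v) = u * (v * u) * v by group, ← (hcomm u v).eq,
        show u * (u * v) * v = (u * u) * (v * v) by group, hexp a, hv, one_mul]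
    let s : Finset {x : P // x * x = 1} :=
      {⟨1, one_mul 1⟩, ⟨u, hexp a⟩, ⟨v, hv⟩, ⟨u * v, huv2⟩, ⟨x, hx⟩}
    have hs : s.card = 5 := by
      simp only [s]
      rw [Finset.card_insert_of_notMem, Finset.card_insert_of_notMem, Finset.card_insert_of_notMem,
        Finset.card_insert_of_notMem, Finset.card_singleton] <;>
        simp only [Finset.mem_insert, Finset.mem_singleton, Subtype.mk.injEq, not_or]
      · exact Ne.symm h4
      · exact ⟨fun he => ha (mul_eq_right.mp he.symm), Ne.symm h3⟩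
      · exact ⟨Ne.symm hva, fun he => hv1 (mul_eq_left.mp he.symm), Ne.symm h2⟩
      · exact ⟨Ne.symm ha, Ne.symm hv1, Ne.symm huv, Ne.symm h1⟩
    have := s.card_le_univ
    rw [hs, ← Nat.card_eq_fintype_card, hfour] at this
    omega
  letI : CommGroup P := { (inferInstance : Group P) with mul_comm := fun x y => hcomm x y }
  set N := 2 ^ (f + 1) with hN
  haveI : NeZero N := ⟨pow_ne_zero _ two_ne_zero⟩
  have hpN : ∀ c : P, c ^ N = 1 := fun c => by rw [hN, ← hf]; exact Nat.find_spec hex c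
  let ψ : Multiplicative (ZMod N × ZMod N) →* P :=
    { toFun := fun w => a ^ w.toAdd.1.val * b ^ w.toAdd.2.val
      map_one' := by simp
      map_mul' := fun w w' => by
        have e : ∀ (c : P) (i j : ZMod N), c ^ (i + j).val = c ^ i.val * c ^ j.val := fun c i j => by
          rw [ZMod.val_add, ← pow_eq_pow_mod (i.val + j.val) (hpN c), pow_add]
        show a ^ (w.toAdd.1 + w'.toAdd.1).val * b ^ (w.toAdd.2 + w'.toAdd.2).val = _
        rw [e, e]
        exact mul_mul_mul_comm _ _ _ _ }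
  have hψ : ∀ i j : ℕ, ψ (Multiplicative.ofAdd ((i : ZMod N), (j : ZMod N))) = a ^ i * b ^ j := fun i j => by
    show a ^ (i : ZMod N).val * b ^ (j : ZMod N).val = _
    rw [ZMod.val_natCast, ZMod.val_natCast, ← pow_eq_pow_mod i (hpN a), ← pow_eq_pow_mod j (hpN b)]
  have hinj : Function.Injective ψ := by
    rw [injective_iff_map_eq_one]
    by_contra hno
    push Not at hno
    obtain ⟨w, hw, hw1⟩ := hno
    haveI : Nontrivial ψ.ker := ⟨⟨⟨w, hw⟩, 1, fun he => hw1 (congrArg Subtype.val he)⟩⟩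
    have hp : IsPGroup 2 ψ.ker := fun z => ⟨f + 1, by
      apply Subtype.ext
      apply Multiplicative.toAdd.injective
      show (2 ^ (f + 1)) • (z.1.toAdd) = 0
      ext <;>
      · simp only [nsmul_eq_mul, Prod.fst_mul, Prod.snd_mul, Prod.fst_natCast, Prod.snd_natCast, Prod.fst_zero, Prod.snd_zero, hN, ZMod.natCast_self, zero_mul]⟩
    obtain ⟨n, hn, hcard⟩ := hp.nontrivial_iff_card.mp inferInstance
    obtain ⟨z, hz⟩ := exists_prime_orderOf_dvd_card' (G := ψ.ker) 2 (hcard ▸ dvd_pow_self 2 (by omega))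
    rw [← Subgroup.orderOf_coe, orderOf_eq_prime_iff] at hz
    obtain ⟨hz2, hz1⟩ := hz
    rw [pow_two] at hz2
    have h2 := congrArg Multiplicative.toAdd hz2
    have hker := z.2
    rw [MonoidHom.mem_ker] at hker
    rcases hzc : z.1.toAdd with ⟨i, j⟩
    rw [toAdd_mul, hzc, toAdd_one, Prod.mk_add_mk, Prod.mk_eq_zero] at h2
    have hz' : z.1 = Multiplicative.ofAdd (i, j) := by rw [← hzc, ofAdd_toAdd]
    rcases zmod_two_torsion i h2.1 with rfl | rfl <;> rcases zmod_two_torsion j h2.2 with rfl | rfl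
    · exact hz1 hz'
    · rw [hz', show ((0 : ZMod N)) = ((0 : ℕ) : ZMod N) from Nat.cast_zero.symm, hψ, pow_zero, one_mul, hb] at hker
      exact hv1 hker
    · rw [hz', show ((0 : ZMod N)) = ((0 : ℕ) : ZMod N) from Nat.cast_zero.symm, hψ, pow_zero, mul_one] at hker
      exact ha hker
    · rw [hz', hψ, hb] at hker
      exact huv hker
  have hsurj : ∀ j ≤ f + 1, ∀ x : P, x ^ 2 ^ j = 1 → x ∈ ψ.range := by
    intro j
    induction j with
    | zero => intro _ x hx; rw [pow_zero, pow_one] at hx; rw [hx]; exact one_mem _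
    | succ j ih =>
      intro hj x hx
      have h2 : x ^ 2 ^ j * x ^ 2 ^ j = 1 := by rw [← pow_add, ← two_mul, ← pow_succ']; exact hx
      obtain ⟨y, hy, hye⟩ : ∃ y ∈ ψ.range, y ^ 2 ^ f = x ^ 2 ^ j := by
        have hmem : ∀ i j : ℕ, a ^ i * b ^ j ∈ ψ.range := fun i j => ⟨_, hψ i j⟩
        rcases hΩ _ h2 with h0 | h0 | h0 | h0
        · exact ⟨1, one_mem _, by rw [h0, one_pow]⟩
        · exact ⟨a, by simpa using hmem 1 0, h0.symm⟩
        · exact ⟨b, by simpa using hmem 0 1, by rw [h0, hb]⟩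
        · exact ⟨a * b, by simpa using hmem 1 1, by rw [mul_pow, hb, h0]⟩
      have hy' := ψ.range.pow_mem hy (2 ^ (f - j))
      have := ih (by omega) (x * (y ^ 2 ^ (f - j))⁻¹) (by
        rw [mul_pow, inv_pow, ← pow_mul, ← pow_add, Nat.sub_add_cancel (by omega), hye, mul_inv_cancel])
      have := ψ.range.mul_mem this hy'
      rwa [inv_mul_cancel_right] at this
  exact ⟨f + 1, by omega, ⟨(MulEquiv.ofBijective ψ ⟨hinj, fun x =>
    hsurj (f + 1) le_rfl x (hpN x)⟩).symm⟩⟩

end CfsgLib.SuzukiTwo
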