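import Cfsg.Agent.Lib.SuzukiTwo.SixtyFour

/-!
Two groups with standard generating systems of order `64` are isomorphic.
-/

set_option autoImplicit false
set_option linter.unusedSectionVars false

namespace CfsgLib.SuzukiTwo

open scoped commutatorElement

universe u v
variable {W : Type u} [Group W] [Finite W] {W' : Type v} [Group W'] [Finite W']

theorem Sixty.iso (h : Sixty W) (h' : Sixty W') : Nonempty (W ≃* W') := by
  classical
  obtain ⟨a₁, a₂, c₁, c₂, z₁, z₂, F⟩ := h.exists_frame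
  obtain ⟨a₁', a₂', c₁', c₂', z₁', z₂', F'⟩ := h'.exists_frame
  have hzc : z₁ ∈ Subgroup.center W ∧ z₂ ∈ Subgroup.center W := ⟨F.sa₁ ▸ h.sq _, F.sa₂ ▸ h.sq _⟩
  have hzc' : z₁' ∈ Subgroup.center W' ∧ z₂' ∈ Subgroup.center W' := ⟨F'.sa₁ ▸ h'.sq _, F'.sa₂ ▸ h'.sq _⟩
  set p : W × W' := (z₁, z₁') with hp
  set q : W × W' := (z₂, z₂') with hq
  set A₁ : W × W' := (a₁, a₁') with hA₁
  set A₂ : W × W' := (a₂, a₂') with hA₂
  set C₁ : W × W' := (c₁, c₁') with hC₁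
  set C₂ : W × W' := (c₂, c₂') with hC₂
  have hcomm : ∀ (x y : W × W') (r : W) (r' : W'), ⁅x.1, y.1⁆ = r → ⁅x.2, y.2⁆ = r' → ⁅x, y⁆ = (r, r') := by
    intro x y r r' h1 h2
    rw [← h1, ← h2]
    rfl
  have hz : ∀ (x y : W × W'), y.1 ∈ Subgroup.center W → y.2 ∈ Subgroup.center W' → ⁅x, y⁆ = 1 := by
    intro x y h1 h2
    refine hcomm x y 1 1 ?_ ?_ <;> rw [← commutatorElement_inv, commutator_center_left (by assumption), inv_one]
  -- the chain
  set S₀ : Set (W × W') := ∅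
  set S₁ := insert p S₀ with hS₁
  set S₂ := insert q S₁ with hS₂
  set S₃ := insert A₁ S₂ with hS₃
  set S₄ := insert A₂ S₃ with hS₄
  set S₅ := insert C₁ S₄ with hS₅
  set S₆ := insert C₂ S₅ with hS₆
  have hp₂ : p ∈ Subgroup.closure S₂ := Subgroup.subset_closure (by simp [hS₂, hS₁])
  have hq₂ : q ∈ Subgroup.closure S₂ := Subgroup.subset_closure (by simp [hS₂])
  have m23 : Subgroup.closure S₂ ≤ Subgroup.closure S₃ := Subgroup.closure_mono (Set.subset_insert _ _)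
  have m34 : Subgroup.closure S₃ ≤ Subgroup.closure S₄ := Subgroup.closure_mono (Set.subset_insert _ _)
  have m45 : Subgroup.closure S₄ ≤ Subgroup.closure S₅ := Subgroup.closure_mono (Set.subset_insert _ _)
  have hsq : ∀ (x : W × W') (r : W) (r' : W'), x.1 * x.1 = r → x.2 * x.2 = r' → x * x = (r, r') := by
    intro x r r' h1 h2
    rw [← h1, ← h2]
    rfl
  have b₁ : Nat.card (Subgroup.closure S₁) ≤ 2 := by
    refine (card_closure_insert (S := S₀) ?_ fun s hs => absurd hs (Set.notMem_empty s)).trans ?_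
    · rw [hsq p 1 1 (h.cen _ hzc.1) (h'.cen _ hzc'.1)]; exact one_mem _
    · rw [Subgroup.closure_empty, Subgroup.card_bot]
  have b₂ : Nat.card (Subgroup.closure S₂) ≤ 4 := by
    refine (card_closure_insert (S := S₁) ?_ ?_).trans (by omega)
    · rw [hsq q 1 1 (h.cen _ hzc.2) (h'.cen _ hzc'.2)]; exact one_mem _
    · rintro s (rfl | hs)
      · rw [hz _ _ hzc.1 hzc'.1]; exact one_mem _
      · exact absurd hs (Set.notMem_empty s)
  have b₃ : Nat.card (Subgroup.closure S₃) ≤ 8 := by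
    refine (card_closure_insert (S := S₂) ?_ ?_).trans (by omega)
    · rw [hsq A₁ z₁ z₁' F.sa₁ F'.sa₁]; exact hp₂
    · rintro s (rfl | rfl | hs)
      · rw [hz _ _ hzc.2 hzc'.2]; exact one_mem _
      · rw [hz _ _ hzc.1 hzc'.1]; exact one_mem _
      · exact absurd hs (Set.notMem_empty s)
  have b₄ : Nat.card (Subgroup.closure S₄) ≤ 16 := by
    refine (card_closure_insert (S := S₃) ?_ ?_).trans (by omega)
    · rw [hsq A₂ z₂ z₂' F.sa₂ F'.sa₂]; exact m23 hq₂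
    · rintro s (rfl | rfl | rfl | hs)
      · rw [hcomm A₂ A₁ 1 1 F.ca F'.ca]; exact one_mem _
      · rw [hz _ _ hzc.2 hzc'.2]; exact one_mem _
      · rw [hz _ _ hzc.1 hzc'.1]; exact one_mem _
      · exact absurd hs (Set.notMem_empty s)
  have b₅ : Nat.card (Subgroup.closure S₅) ≤ 32 := by
    refine (card_closure_insert (S := S₄) ?_ ?_).trans (by omega)
    · rw [hsq C₁ z₁ z₁' F.sc₁ F'.sc₁]; exact m34 (m23 hp₂)
    · rintro s (rfl | rfl | rfl | rfl | hs)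
      · rw [hcomm C₁ A₂ z₁ z₁' F.k₂₁ F'.k₂₁]; exact m34 (m23 hp₂)
      · rw [hcomm C₁ A₁ z₂ z₂' F.k₁₁ F'.k₁₁]; exact m34 (m23 hq₂)
      · rw [hz _ _ hzc.2 hzc'.2]; exact one_mem _
      · rw [hz _ _ hzc.1 hzc'.1]; exact one_mem _
      · exact absurd hs (Set.notMem_empty s)
  have b₆ : Nat.card (Subgroup.closure S₆) ≤ 64 := by
    refine (card_closure_insert (S := S₅) ?_ ?_).trans (by omega)
    · rw [hsq C₂ z₂ z₂' F.sc₂ F'.sc₂]; exact m45 (m34 (m23 hq₂))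
    · rintro s (rfl | rfl | rfl | rfl | rfl | hs)
      · rw [hcomm C₂ C₁ 1 1 F.cc F'.cc]; exact one_mem _
      · rw [hcomm C₂ A₂ (z₁ * z₂) (z₁' * z₂') F.k₂₂ F'.k₂₂]
        exact (Subgroup.closure S₅).mul_mem (m45 (m34 (m23 hp₂))) (m45 (m34 (m23 hq₂)))
      · rw [hcomm C₂ A₁ z₁ z₁' F.k₁₂ F'.k₁₂]; exact m45 (m34 (m23 hp₂))
      · rw [hz _ _ hzc.2 hzc'.2]; exact one_mem _
      · rw [hz _ _ hzc.1 hzc'.1]; exact one_mem _
      · exact absurd hs (Set.notMem_empty s)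
  set H := Subgroup.closure S₆
  have mem : A₁ ∈ H ∧ A₂ ∈ H ∧ C₁ ∈ H ∧ C₂ ∈ H :=
    ⟨Subgroup.subset_closure (by simp [hS₆, hS₅, hS₄, hS₃]), Subgroup.subset_closure (by simp [hS₆, hS₅, hS₄]),
      Subgroup.subset_closure (by simp [hS₆, hS₅]), Subgroup.subset_closure (by simp [hS₆])⟩
  let f : H →* W := (MonoidHom.fst W W').comp H.subtype
  let g : H →* W' := (MonoidHom.snd W W').comp H.subtype
  have hf : Function.Surjective f := MonoidHom.range_eq_top.mp (by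
    rw [eq_top_iff, ← F.gen, Subgroup.closure_le]
    rintro x (rfl | rfl | rfl | rfl)
    exacts [⟨⟨A₁, mem.1⟩, rfl⟩, ⟨⟨A₂, mem.2.1⟩, rfl⟩, ⟨⟨C₁, mem.2.2.1⟩, rfl⟩, ⟨⟨C₂, mem.2.2.2⟩, rfl⟩])
  have hg : Function.Surjective g := MonoidHom.range_eq_top.mp (by
    rw [eq_top_iff, ← F'.gen, Subgroup.closure_le]
    rintro x (rfl | rfl | rfl | rfl)
    exacts [⟨⟨A₁, mem.1⟩, rfl⟩, ⟨⟨A₂, mem.2.1⟩, rfl⟩, ⟨⟨C₁, mem.2.2.1⟩, rfl⟩, ⟨⟨C₂, mem.2.2.2⟩, rfl⟩])
  have hfb : Function.Bijective f := (Nat.bijective_iff_surjective_and_card f).mpr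
    ⟨hf, le_antisymm (b₆.trans h.card.ge) (Nat.card_le_card_of_surjective f hf)⟩
  have hgb : Function.Bijective g := (Nat.bijective_iff_surjective_and_card g).mpr
    ⟨hg, le_antisymm (b₆.trans h'.card.ge) (Nat.card_le_card_of_surjective g hg)⟩
  exact ⟨(MulEquiv.ofBijective f hfb).symm.trans (MulEquiv.ofBijective g hgb)⟩

end CfsgLib.SuzukiTwo
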