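import Mathlib

/-!
Squaring maps of a module of additive endomorphisms of a field invariant under conjugation by a generator.
-/

set_option autoImplicit false
set_option linter.unusedSectionVars false

namespace CfsgLib.SuzukiTwo

open Polynomial

variable {F : Type*} [Field F] [Finite F] [CharP F 2]

/-- The additive map with given coefficients. -/
def frobSum {n : ℕ} (a : Fin n → F) : F →+ F :=
  { toFun := fun x => ∑ i, a i * x ^ (2 ^ (i : ℕ))
    map_zero' := by simp
    map_add' := fun x y => by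
      rw [← Finset.sum_add_distrib]
      refine Finset.sum_congr rfl fun i _ => ?_
      rw [← mul_add]
      congr 1
      haveI : Fact (Nat.Prime 2) := ⟨Nat.prime_two⟩
      exact add_pow_char_pow x y 2 _ }

theorem frobSum_apply {n : ℕ} (a : Fin n → F) (x : F) : frobSum a x = ∑ i, a i * x ^ (2 ^ (i : ℕ)) := rfl

theorem frobSum_add {n : ℕ} (a b : Fin n → F) : frobSum (a + b) = frobSum a + frobSum b := by
  ext x
  simp [frobSum_apply, add_mul, Finset.sum_add_distrib]

variable {n : ℕ} (hn : Nat.card F = 2 ^ n) (hn2 : 2 ≤ n) {l : F} (hl : ∀ t : F, t ≠ 0 → ∃ i : ℕ, l ^ i = t)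

include hn hn2 hl

theorem l_ne_zero : l ≠ 0 := by
  intro h
  haveI := Fintype.ofFinite F
  have h4 : 4 ≤ Nat.card F := hn ▸ Nat.pow_le_pow_right (by norm_num : 2 > 0) hn2
  rw [Nat.card_eq_fintype_card] at h4
  obtain ⟨t, ht0, ht1⟩ : ∃ t : F, t ≠ 0 ∧ t ≠ 1 := by
    classical
    by_contra hno
    push Not at hno
    have hsub : (Finset.univ : Finset F) ⊆ {0, 1} := fun t _ => by
      by_cases ht : t = 0
      · simp [ht]
      · simp [hno t ht]
    have := (Finset.card_le_card hsub).trans Finset.card_le_two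
    rw [Finset.card_univ] at this
    omega
  obtain ⟨i, hi⟩ := hl t ht0
  rcases Nat.eq_zero_or_pos i with rfl | hi'
  · exact ht1 (by simpa using hi.symm)
  · exact ht0 (by rw [← hi, h, zero_pow hi'.ne'])

theorem orderOf_l : orderOf l = 2 ^ n - 1 := by
  haveI := Fintype.ofFinite F
  have h0 := l_ne_zero hn hn2 hl
  have h1 : orderOf (Units.mk0 l h0) = Nat.card Fˣ := by
    refine orderOf_eq_card_of_forall_mem_powers fun u => ?_
    obtain ⟨i, hi⟩ := hl u u.ne_zero
    exact ⟨i, Units.ext (by simpa using hi)⟩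
  rw [← orderOf_units, Units.val_mk0] at h1
  rw [h1, Nat.card_units, hn]

theorem pow_two_inj {i j : Fin n} (h : ∀ t : F, t ^ (2 ^ (i : ℕ)) = t ^ (2 ^ (j : ℕ))) : i = j := by
  have hlt : ∀ k : Fin n, 2 ^ (k : ℕ) < 2 ^ n - 1 := fun k => by
    have h1 : 2 ^ (k : ℕ) * 2 ≤ 2 ^ n := by
      rw [← pow_succ]
      exact Nat.pow_le_pow_right (by norm_num) k.2
    rcases Nat.eq_zero_or_pos (k : ℕ) with hk | hk
    · rw [hk]
      have : 4 ≤ 2 ^ n := Nat.pow_le_pow_right (by norm_num : 2 > 0) hn2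
      norm_num
      omega
    · have : 2 ≤ 2 ^ (k : ℕ) := Nat.le_self_pow hk.ne' 2
      omega
  have := pow_injOn_Iio_orderOf (x := l) (by rw [orderOf_l hn hn2 hl]; exact hlt i)
    (by rw [orderOf_l hn hn2 hl]; exact hlt j) (h l)
  exact Fin.ext (Nat.pow_right_injective le_rfl this)

/-- Frobenius powers are linearly independent. -/
theorem frobSum_injective : Function.Injective (frobSum : (Fin n → F) → (F →+ F)) := by
  have hli := (linearIndependent_monoidHom F F).comp (fun i : Fin n => (powMonoidHom (2 ^ (i : ℕ)) : F →* F))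
    (fun i j h => pow_two_inj hn hn2 hl fun t => DFunLike.congr_fun h t)
  intro a b h
  have h2 : ∑ i, (a i - b i) • (fun x : F => x ^ (2 ^ (i : ℕ))) = 0 := by
    funext x
    simp only [Finset.sum_apply, Pi.smul_apply, smul_eq_mul, sub_mul, Finset.sum_sub_distrib, Pi.zero_apply,
      sub_eq_zero]
    exact DFunLike.congr_fun h x
  funext i
  exact sub_eq_zero.mp (Fintype.linearIndependent_iff.mp hli (fun i => a i - b i) h2 i)

theorem frobSum_surjective : Function.Surjective (frobSum : (Fin n → F) → (F →+ F)) := by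
  haveI := Fintype.ofFinite F
  letI : Algebra (ZMod 2) F := ZMod.algebra F 2
  have hdim : Module.finrank (ZMod 2) F = n := by
    have h := Module.card_eq_pow_finrank (K := ZMod 2) (V := F)
    rw [← Nat.card_eq_fintype_card, hn, ZMod.card] at h
    exact (Nat.pow_right_injective le_rfl h).symm
  let bs := Module.finBasisOfFinrankEq (ZMod 2) F hdim
  have hres : Function.Injective (fun (f : F →+ F) (k : Fin n) => f (bs k)) := by
    intro f g h
    have : f.toZModLinearMap 2 = g.toZModLinearMap 2 := bs.ext fun k => congrFun h k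
    exact AddMonoidHom.toZModLinearMap_injective 2 this
  haveI : Finite (F →+ F) := Finite.of_injective _ hres
  have h1 : Nat.card (F →+ F) ≤ Nat.card (Fin n → F) := Nat.card_le_card_of_injective _ hres
  exact ((frobSum_injective hn hn2 hl).bijective_of_nat_card_le h1).2

/-- The eigenvalue of conjugation on the `i`-th component. -/
theorem frobSum_conj (a : Fin n → F) (x : F) :
    frobSum (fun i : Fin n => l * (l ^ (2 ^ (i : ℕ)))⁻¹ * a i) (l * x) = l * frobSum a x := by
  rw [frobSum_apply, frobSum_apply, Finset.mul_sum]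
  refine Finset.sum_congr rfl fun i _ => ?_
  have := pow_ne_zero (2 ^ (i : ℕ)) (l_ne_zero hn hn2 hl)
  rw [mul_pow]
  field_simp

theorem pow_card_pow (t : F) (m : ℕ) : t ^ (2 ^ (m % n)) = t ^ (2 ^ m) := by
  haveI := Fintype.ofFinite F
  have hq : Fintype.card F = 2 ^ n := by rw [← hn, Nat.card_eq_fintype_card]
  conv_rhs => rw [← Nat.mod_add_div m n, pow_add, pow_mul, pow_mul, ← hq, FiniteField.pow_card_pow]

/-- The eigenvalues of different components are not conjugate. -/
theorem weight_inj {i j : Fin n} {s : ℕ}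
    (h : (l * (l ^ (2 ^ (i : ℕ)))⁻¹) ^ (2 ^ s) = l * (l ^ (2 ^ (j : ℕ)))⁻¹) : i = j := by
  have h0 := l_ne_zero hn hn2 hl
  have hn0 : 0 < n := lt_of_lt_of_le (by norm_num) hn2
  have hL : l ^ (2 ^ s) * l ^ (2 ^ (j : ℕ)) = l * l ^ (2 ^ ((i : ℕ) + s)) := by
    rw [mul_pow, inv_pow, ← pow_mul, ← pow_add] at h
    field_simp at h
    linear_combination h
  have hall : ∀ t : F, t ^ (2 ^ s) * t ^ (2 ^ (j : ℕ)) = t * t ^ (2 ^ ((i : ℕ) + s)) := by
    intro t
    by_cases ht : t = 0
    · simp [ht]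
    obtain ⟨k, rfl⟩ := hl t ht
    rw [← pow_mul, ← pow_mul, mul_comm k, mul_comm k, pow_mul, pow_mul, ← mul_pow, hL, mul_pow, ← pow_mul,
      ← pow_mul, mul_comm k]
  haveI : Fact (Nat.Prime 2) := ⟨Nat.prime_two⟩
  have hlin : ∀ t : F, t ^ (2 ^ s) + t ^ (2 ^ (j : ℕ)) = t + t ^ (2 ^ ((i : ℕ) + s)) := by
    intro t
    have h1 := hall (t + 1)
    rw [add_pow_char_pow, add_pow_char_pow, add_pow_char_pow, one_pow, one_pow, one_pow] at h1
    linear_combination h1 - hall t
  classical
  let s' : Fin n := ⟨s % n, Nat.mod_lt _ hn0⟩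
  let a' : Fin n := ⟨((i : ℕ) + s) % n, Nat.mod_lt _ hn0⟩
  let z : Fin n := ⟨0, hn0⟩
  have hcoef : (Pi.single s' (1 : F) + Pi.single j 1 : Fin n → F) = Pi.single z 1 + Pi.single a' 1 := by
    refine frobSum_injective hn hn2 hl (AddMonoidHom.ext fun t => ?_)
    have hone : ∀ k : Fin n, frobSum (Pi.single k (1 : F)) t = t ^ (2 ^ (k : ℕ)) := fun k => by
      rw [frobSum_apply, Finset.sum_eq_single k]
      · simp
      · intro b _ hb
        simp [Pi.single_eq_of_ne hb]
      · simp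
    rw [frobSum_add, frobSum_add, AddMonoidHom.add_apply, AddMonoidHom.add_apply, hone, hone, hone, hone]
    show t ^ (2 ^ (s % n)) + t ^ (2 ^ (j : ℕ)) = t ^ (2 ^ 0) + t ^ (2 ^ (((i : ℕ) + s) % n))
    rw [pow_card_pow hn hn2 hl, pow_card_pow hn hn2 hl, hlin]
    simp
  by_cases ha : a' = z
  · have hsj : s' = j := by
      by_contra hne
      have h1 := congrFun hcoef j
      simp [Pi.single_eq_of_ne (Ne.symm hne), ha, CharTwo.add_self_eq_zero] at h1
    -- then `t ^ 2` is `t ^ (2 ^ (j + 1))`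
    have hj : j = z := by
      refine pow_two_inj hn hn2 hl fun t => frobenius_inj F 2 ?_
      have h1 := hall t
      rw [← pow_card_pow hn hn2 hl t s, ← pow_card_pow hn hn2 hl t ((i : ℕ) + s)] at h1
      have e1 : t ^ (2 ^ (s % n)) = t ^ (2 ^ (j : ℕ)) := congrArg (fun k : Fin n => t ^ (2 ^ (k : ℕ))) hsj
      have e2 : t ^ (2 ^ (((i : ℕ) + s) % n)) = t ^ (2 ^ (z : ℕ)) :=
        congrArg (fun k : Fin n => t ^ (2 ^ (k : ℕ))) ha
      rw [e1, e2] at h1
      simp only [frobenius_def, pow_two, z, pow_zero, pow_one] at h1 ⊢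
      exact h1
    have hs : s % n = 0 := congrArg Fin.val (hsj.trans hj)
    have hi : (i : ℕ) = 0 := by
      have h1 : ((i : ℕ) + s) % n = 0 := congrArg Fin.val ha
      rw [Nat.add_mod, hs, add_zero, Nat.mod_mod, Nat.mod_eq_of_lt i.2] at h1
      exact h1
    rw [hj]
    exact Fin.ext hi
  · have h1 := congrFun hcoef z
    have h2 := congrFun hcoef a'
    simp only [Pi.add_apply, Pi.single_eq_same, Pi.single_eq_of_ne ha, Pi.single_eq_of_ne (Ne.symm ha),
      zero_add, add_zero] at h1 h2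
    by_cases hs : s' = z
    · by_cases hj : j = a'
      · rw [hj]
        have hs0 : s % n = 0 := congrArg Fin.val hs
        apply Fin.ext
        show (i : ℕ) = ((i : ℕ) + s) % n
        rw [Nat.add_mod, hs0, add_zero, Nat.mod_mod, Nat.mod_eq_of_lt i.2]
      · rw [hs, Pi.single_eq_of_ne ha, Pi.single_eq_of_ne (Ne.symm hj)] at h2
        simp at h2
    · have hjz : j = z := by
        by_contra hj
        rw [Pi.single_eq_of_ne (Ne.symm hs), Pi.single_eq_of_ne (Ne.symm hj)] at h1
        simp at h1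
      have hsa : s' = a' := by
        by_contra hsa
        rw [Pi.single_eq_of_ne (Ne.symm hsa), hjz, Pi.single_eq_of_ne ha] at h2
        simp at h2
      rw [hjz]
      apply Fin.ext
      show (i : ℕ) = 0
      have h3 : s % n = ((i : ℕ) + s) % n := congrArg Fin.val hsa
      have h4 : (i : ℕ) ≡ 0 [MOD n] := Nat.ModEq.add_right_cancel' s (by
        show ((i : ℕ) + s) % n = (0 + s) % n
        rw [zero_add, h3])
      exact Nat.eq_zero_of_dvd_of_lt (Nat.modEq_zero_iff_dvd.mp h4) i.2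

/-- An invariant additive subgroup of coefficient vectors is the sum of its components. -/
theorem projection_mem {A : AddSubgroup (Fin n → F)}
    (hA : ∀ a ∈ A, (fun i : Fin n => l * (l ^ (2 ^ (i : ℕ)))⁻¹ * a i) ∈ A) {a : Fin n → F} (ha : a ∈ A)
    (i : Fin n) : Pi.single i (a i) ∈ A := by
  classical
  haveI := Fintype.ofFinite F
  letI : Algebra (ZMod 2) F := ZMod.algebra F 2
  set μ : Fin n → F := fun i => l * (l ^ (2 ^ (i : ℕ)))⁻¹ with hμ
  let G : Subring (Fin n → F) :=
    { carrier := {g | ∀ b ∈ A, g * b ∈ A}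
      one_mem' := fun b hb => by rwa [one_mul]
      mul_mem' := fun {g h} hg hh b hb => by rw [mul_assoc]; exact hg _ (hh b hb)
      zero_mem' := fun b _ => by rw [zero_mul]; exact A.zero_mem
      add_mem' := fun {g h} hg hh b hb => by rw [add_mul]; exact A.add_mem (hg b hb) (hh b hb)
      neg_mem' := fun {g} hg b hb => by rw [neg_mul]; exact A.neg_mem (hg b hb) }
  have hμG : μ ∈ G := fun b hb => hA b hb
  have hpoly : ∀ p : (ZMod 2)[X], (fun k => aeval (μ k) p) ∈ G := by
    intro p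
    induction p using Polynomial.induction_on' with
    | add p q hp hq =>
      have e : (fun k => aeval (μ k) (p + q)) = (fun k => aeval (μ k) p) + (fun k => aeval (μ k) q) := by
        funext k
        simp
      rw [e]
      exact G.add_mem hp hq
    | monomial m c =>
      have e : (fun k => aeval (μ k) (monomial m c)) = (c.val : Fin n → F) * μ ^ m := by
        funext k
        simp only [aeval_monomial, Pi.mul_apply, Pi.pow_apply, Pi.natCast_apply]
        congr 1
      rw [e]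
      exact G.mul_mem (natCast_mem G _) (G.pow_mem hμG m)
  have hsep : ∀ j, j ≠ i → ∃ g ∈ G, g j = 0 ∧ g i ≠ 0 := by
    intro j hji
    refine ⟨_, hpoly (minpoly (ZMod 2) (μ j)), minpoly.aeval _ _, fun h => hji ?_⟩
    haveI : Algebra.IsAlgebraic (ZMod 2) F := Algebra.IsAlgebraic.of_finite (ZMod 2) F
    haveI : IsGalois (ZMod 2) F := GaloisField.instIsGaloisOfFinite
    obtain ⟨σ, hσ⟩ := minpoly.exists_algEquiv_of_root' (Algebra.IsAlgebraic.isAlgebraic (μ j)) h
    obtain ⟨m, hm⟩ := (FiniteField.bijective_frobeniusAlgEquivOfAlgebraic_pow (ZMod 2) F).2 σ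
    refine weight_inj hn hn2 hl (i := j) (j := i) (s := (m : ℕ)) ?_
    rw [← hm] at hσ
    simp only [AlgEquiv.coe_pow, FiniteField.coe_frobeniusAlgEquivOfAlgebraic, pow_iterate, ZMod.card] at hσ
    exact hσ
  choose g hg hgj hgi using hsep
  let e : Fin n → F := ∏ j : {j // j ≠ i}, g j j.2
  have heG : e ∈ G := Subring.prod_mem G fun j _ => hg j j.2
  have hei : e i ≠ 0 := by
    show (∏ j : {j // j ≠ i}, g j j.2) i ≠ 0
    rw [Finset.prod_apply]
    exact Finset.prod_ne_zero_iff.mpr fun j _ => hgi j j.2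
  have hej : ∀ j, j ≠ i → e j = 0 := fun j hj => by
    show (∏ k : {k // k ≠ i}, g k k.2) j = 0
    rw [Finset.prod_apply]
    exact Finset.prod_eq_zero (Finset.mem_univ ⟨j, hj⟩) (hgj j hj)
  have hfin : e ^ (Fintype.card F - 1) * a = Pi.single i (a i) := by
    funext j
    by_cases hj : j = i
    · subst hj
      rw [Pi.mul_apply, Pi.pow_apply, FiniteField.pow_card_sub_one_eq_one _ hei, one_mul, Pi.single_eq_same]
    · have h1 : 1 < Fintype.card F := Fintype.one_lt_card
      rw [Pi.mul_apply, Pi.pow_apply, hej j hj, zero_pow (by omega), zero_mul, Pi.single_eq_of_ne hj]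
  rw [← hfin]
  exact G.pow_mem heG _ a ha

/-- A single component with no fixed-point-free member has unique fixed points. -/
theorem fixed_unique {i : Fin n} (hi : (i : ℕ) ≠ 0) {A : AddSubgroup F}
    (hA : ∀ a ∈ A, l * (l ^ (2 ^ (i : ℕ)))⁻¹ * a ∈ A) (hne : ∃ a ∈ A, a ≠ 0)
    (hfix : ∀ a ∈ A, a ≠ 0 → ∃ c : F, c ≠ 0 ∧ a * c ^ (2 ^ (i : ℕ)) = c) {a c d : F}
    (hc : c ≠ 0) (hd : d ≠ 0) (hce : a * c ^ (2 ^ (i : ℕ)) = c) (hde : a * d ^ (2 ^ (i : ℕ)) = d) : c = d := by
  classical
  haveI := Fintype.ofFinite F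
  haveI : Fact (Nat.Prime 2) := ⟨Nat.prime_two⟩
  set N := 2 ^ (i : ℕ) with hN
  set h : F → F := fun c => c * (c ^ N)⁻¹ with hh
  have hval : ∀ {a c : F}, c ≠ 0 → a * c ^ N = c → a = h c := fun {a c} hc hce =>
    (eq_mul_inv_iff_mul_eq₀ (pow_ne_zero N hc)).mpr hce
  have hmul : ∀ c d, h (c * d) = h c * h d := fun c d => by
    simp only [hh, mul_pow, mul_inv]
    ring
  have hstep : ∀ (m : ℕ) (b : F), b ∈ A → h (l ^ m) * b ∈ A := by
    intro m
    induction m with
    | zero => intro b hb; simpa [hh] using hb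
    | succ m ih =>
      intro b hb
      rw [pow_succ, hmul, mul_assoc]
      exact ih _ (hA b hb)
  have hHA : ∀ c : F, c ≠ 0 → h c ∈ A := by
    intro c hc
    obtain ⟨b, hb, hb0⟩ := hne
    obtain ⟨c₀, hc₀, hbe⟩ := hfix b hb hb0
    obtain ⟨m, hm⟩ := hl (c * c₀⁻¹) (mul_ne_zero hc (inv_ne_zero hc₀))
    have := hstep m b hb
    rwa [hm, hval hc₀ hbe, ← hmul, inv_mul_cancel_right₀ hc₀] at this
  have hAH : ∀ b ∈ A, b ≠ 0 → ∃ c, c ≠ 0 ∧ h c = b := fun b hb hb0 => by
    obtain ⟨c, hc, hce⟩ := hfix b hb hb0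
    exact ⟨c, hc, (hval hc hce).symm⟩
  have hAm : ∀ x ∈ A, ∀ y ∈ A, x * y ∈ A := fun x hx y hy => by
    by_cases hx0 : x = 0
    · simp [hx0]
    by_cases hy0 : y = 0
    · simp [hy0]
    obtain ⟨u, hu, rfl⟩ := hAH x hx hx0
    obtain ⟨v, hv, rfl⟩ := hAH y hy hy0
    rw [← hmul]
    exact hHA _ (mul_ne_zero hu hv)
  have hAinv : ∀ x ∈ A, x⁻¹ ∈ A := fun x hx => by
    by_cases hx0 : x = 0
    · simp [hx0]
    obtain ⟨u, hu, rfl⟩ := hAH x hx hx0
    have : (h u)⁻¹ = h u⁻¹ := by simp [hh, mul_comm]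
    rw [this]
    exact hHA _ (inv_ne_zero hu)
  have hsq : ∀ (K : Set F), (0 : F) ∈ K → (∀ x ∈ K, ∀ y ∈ K, x - y ∈ K) → (∀ x ∈ K, ∀ y ∈ K, x * y ∈ K) →
      (∀ x ∈ K, x⁻¹ ∈ K) → K ≠ Set.univ → Nat.card K * Nat.card K ≤ Nat.card F := by
    intro K _ hsub hmul' hinv hK
    obtain ⟨t, ht⟩ := (Set.ne_univ_iff_exists_notMem K).mp hK
    rw [← Nat.card_prod]
    refine Nat.card_le_card_of_injective (fun x : K × K => (x.1 : F) + x.2 * t) ?_
    rintro ⟨⟨x, hx⟩, ⟨y, hy⟩⟩ ⟨⟨x', hx'⟩, ⟨y', hy'⟩⟩ he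
    simp only at he
    by_cases hyy : y = y'
    · subst hyy
      have := add_right_cancel he
      subst this
      rfl
    · refine absurd ?_ ht
      have hne' : y - y' ≠ 0 := sub_ne_zero.mpr hyy
      rw [show t = (x' - x) * (y - y')⁻¹ by field_simp; linear_combination he]
      exact hmul' _ (hsub _ hx' _ hx) _ (hinv _ (hsub _ hy _ hy'))
  have hsub2 : ∀ x y : F, x - y = x + y := fun x y => CharTwo.sub_eq_add x y
  let L : Set F := {t | t ^ N = t}
  by_cases hAu : (A : Set F) = Set.univ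
  · -- then `h` is injective
    have hsurj : ∀ u : Fˣ, ∃ c : Fˣ, h c = u := fun u => by
      obtain ⟨c, hc, he⟩ := hAH u (hAu.symm ▸ Set.mem_univ (u : F) : (u : F) ∈ (A : Set F)) u.ne_zero
      exact ⟨Units.mk0 c hc, he⟩
    let hu : Fˣ → Fˣ := fun c => Units.mk0 (h c) (mul_ne_zero c.ne_zero (inv_ne_zero (pow_ne_zero N c.ne_zero)))
    have hb : Function.Bijective hu := Finite.surjective_iff_bijective.mp fun u => by
      obtain ⟨c, hc⟩ := hsurj u
      exact ⟨c, Units.ext hc⟩
    have := @hb.1 (Units.mk0 c hc) (Units.mk0 d hd) (Units.ext ((hval hc hce).symm.trans (hval hd hde)))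
    exact congrArg Units.val this
  · exfalso
    have hLu : L ≠ Set.univ := fun he => hi (congrArg Fin.val (pow_two_inj hn hn2 hl (i := i)
      (j := ⟨0, lt_of_lt_of_le (by norm_num) hn2⟩) fun t => by
        simp only [pow_zero, pow_one]
        exact (he.symm ▸ Set.mem_univ t : t ∈ L)))
    have hLsub : ∀ x ∈ L, ∀ y ∈ L, x - y ∈ L := fun x (hx : x ^ N = x) y (hy : y ^ N = y) => by
      show (x - y) ^ N = x - y
      rw [hsub2, hN, add_pow_char_pow, ← hN, hx, hy]
    have hL2 := hsq L (show (0 : F) ^ N = 0 from zero_pow (pow_ne_zero _ two_ne_zero)) hLsub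
      (fun x (hx : x ^ N = x) y (hy : y ^ N = y) => show (x * y) ^ N = x * y by rw [mul_pow, hx, hy])
      (fun x (hx : x ^ N = x) => show x⁻¹ ^ N = x⁻¹ by rw [inv_pow, hx]) hLu
    have hA2 := hsq (A : Set F) A.zero_mem (fun x hx y hy => A.sub_mem hx hy) hAm hAinv hAu
    -- `Fˣ` maps to `A \ 0` with fibres inside translates of `L \ 0`
    have hcount : Nat.card F - 1 ≤ (Nat.card (A : Set F) - 1) * (Nat.card L - 1) := by
      let A0 : Finset F := Finset.univ.filter fun x => x ∈ A ∧ x ≠ 0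
      let L0 : Finset F := Finset.univ.filter fun x => x ∈ L ∧ x ≠ 0
      let U : Finset F := Finset.univ.filter fun x => x ≠ 0
      have hU : U.card = Nat.card F - 1 := by
        rw [show U = Finset.univ.erase 0 by ext x; simp [U], Finset.card_erase_of_mem (Finset.mem_univ _),
          Finset.card_univ, Nat.card_eq_fintype_card]
      have hA0 : A0.card = Nat.card (A : Set F) - 1 := by
        rw [show A0 = (A : Set F).toFinset.erase 0 by ext x; simp [A0, and_comm],
          Finset.card_erase_of_mem (by simp), Set.toFinset_card, Nat.card_eq_fintype_card]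
      have hL0 : L0.card = Nat.card L - 1 := by
        rw [show L0 = L.toFinset.erase 0 by ext x; simp [L0, and_comm],
          Finset.card_erase_of_mem (by simp [L, zero_pow (pow_ne_zero _ (two_ne_zero : (2 : ℕ) ≠ 0)), hN]),
          Set.toFinset_card, Nat.card_eq_fintype_card]
      rw [← hU, ← hA0, ← hL0, mul_comm]
      refine Finset.card_le_mul_card_image_of_maps_to (f := h) (fun x hx => ?_) _ fun b hb => ?_
      · simp only [U, Finset.mem_filter, Finset.mem_univ, true_and] at hx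
        simp only [A0, Finset.mem_filter, Finset.mem_univ, true_and]
        exact ⟨hHA x hx, mul_ne_zero hx (inv_ne_zero (pow_ne_zero N hx))⟩
      · rcases (U.filter fun x => h x = b).eq_empty_or_nonempty with he | ⟨x₀, hx₀⟩
        · simp [he]
        simp only [U, Finset.mem_filter, Finset.mem_univ, true_and] at hx₀
        refine Finset.card_le_card_of_injOn (fun x => x * x₀⁻¹) (fun x hx => ?_)
          (fun x _ y _ he => mul_right_cancel₀ (inv_ne_zero hx₀.1) he)
        simp only [U, Finset.mem_filter, Finset.mem_univ, true_and, Finset.coe_filter, Set.mem_setOf_eq] at hx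
        simp only [L0, Finset.coe_filter, Finset.mem_univ, true_and, Set.mem_setOf_eq]
        refine ⟨?_, mul_ne_zero hx.1 (inv_ne_zero hx₀.1)⟩
        show (x * x₀⁻¹) ^ N = x * x₀⁻¹
        have h1 : h x = h x₀ := hx.2.trans hx₀.2.symm
        simp only [hh] at h1
        have := pow_ne_zero N hx.1
        have := pow_ne_zero N hx₀.1
        have := hx₀.1
        rw [mul_pow, inv_pow]
        field_simp at h1 ⊢
        linear_combination -h1
    have hq : 2 ≤ Nat.card F := Finite.one_lt_card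
    obtain ⟨x, hx⟩ : ∃ x, Nat.card (A : Set F) = x + 1 := ⟨_, (Nat.succ_pred_eq_of_pos (Nat.card_pos (α := A))).symm⟩
    haveI : Nonempty L := ⟨⟨1, show (1 : F) ^ N = 1 from one_pow N⟩⟩
    obtain ⟨y, hy⟩ : ∃ y, Nat.card L = y + 1 := ⟨_, (Nat.succ_pred_eq_of_pos (Nat.card_pos (α := L))).symm⟩
    rw [hx] at hA2
    rw [hy] at hL2
    rw [hx, hy, Nat.add_sub_cancel, Nat.add_sub_cancel] at hcount
    have h1 : Nat.card F ≤ x * y + 1 := by omega
    nlinarith [Nat.mul_le_mul (Nat.le_succ x) (Nat.le_succ y)]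

theorem eval_single [DecidableEq (Fin n)] (i : Fin n) (a x : F) :
    frobSum (Pi.single i a) x = a * x ^ (2 ^ (i : ℕ)) := by
  rw [frobSum_apply, Finset.sum_eq_single i]
  · rw [Pi.single_eq_same]
  · intro b _ hb
    rw [Pi.single_eq_of_ne hb, zero_mul]
  · simp

/-- The squaring map on the module vanishes. -/
theorem phi_eq_zero (W : AddSubgroup (F →+ F))
    (hconj : ∀ w ∈ W, ∃ w' ∈ W, ∀ x, w' (l * x) = l * w x)
    (φ : (F →+ F) → F) (B : (F →+ F) → (F →+ F) → F)
    (hadd : ∀ a ∈ W, ∀ b ∈ W, φ (a + b) = φ a + φ b + B a b)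
    (hB : ∀ a ∈ W, ∀ b ∈ W, ∀ c ∈ W, B a (b + c) = B a b + B a c)
    (hE : ∀ a ∈ W, ∀ b ∈ W, b (φ a) = B a b + a (B a b))
    (hself : ∀ a ∈ W, a (φ a) = 0)
    (hfix : ∀ a ∈ W, a ≠ 0 → φ a = 0 → ∃ c, c ≠ 0 ∧ a c = c)
    (hone : AddMonoidHom.id F ∉ W) : ∀ w ∈ W, φ w = 0 := by
  classical
  have hsymm : ∀ a ∈ W, ∀ b ∈ W, B a b = B b a := fun a ha b hb => by
    have h1 := hadd a ha b hb
    rw [add_comm a b, hadd b hb a ha, add_comm (φ b) (φ a)] at h1
    exact (add_left_cancel h1).symm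
  have hB0 : ∀ a ∈ W, B a 0 = 0 := fun a ha => by
    have h := hB a ha 0 W.zero_mem 0 W.zero_mem
    rw [add_zero] at h
    exact add_eq_left.mp h.symm
  have hφ0 : φ 0 = 0 := by
    have h := hadd 0 W.zero_mem 0 W.zero_mem
    rw [add_zero, hB0 0 W.zero_mem, add_zero, CharTwo.add_self_eq_zero] at h
    exact h
  let Φ : (Fin n → F) →+ (F →+ F) :=
    { toFun := frobSum
      map_zero' := by ext x; simp [frobSum_apply]
      map_add' := frobSum_add }
  let A : AddSubgroup (Fin n → F) := W.comap Φ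
  have hA : ∀ a ∈ A, (fun i : Fin n => l * (l ^ (2 ^ (i : ℕ)))⁻¹ * a i) ∈ A := by
    intro a ha
    obtain ⟨w', hw', he⟩ := hconj _ ha
    have : w' = frobSum (fun i : Fin n => l * (l ^ (2 ^ (i : ℕ)))⁻¹ * a i) := by
      refine AddMonoidHom.ext fun y => ?_
      obtain ⟨x, rfl⟩ : ∃ x, l * x = y := ⟨l⁻¹ * y, by rw [mul_inv_cancel_left₀ (l_ne_zero hn hn2 hl)]⟩
      rw [he, frobSum_conj hn hn2 hl]
      rfl
    show frobSum _ ∈ W
    exact this ▸ hw'
  have hW : ∀ a, a ∈ A → frobSum a ∈ W := fun a ha => ha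
  have hsingle : ∀ (i : Fin n) (a : F), Pi.single i a ∈ A → φ (frobSum (Pi.single i a)) = 0 := by
    intro i a ha
    by_cases ha0 : a = 0
    · rw [ha0, Pi.single_zero]
      exact (congrArg φ (map_zero Φ)).trans hφ0
    have h := hself _ (hW _ ha)
    rw [eval_single hn hn2 hl] at h
    exact eq_zero_of_pow_eq_zero ((mul_eq_zero.mp h).resolve_left ha0)
  have hne0 : ∀ (i : Fin n) (a : F), a ≠ 0 → frobSum (Pi.single i a) ≠ 0 := fun i a ha h => by
    have := DFunLike.congr_fun h 1
    rw [eval_single hn hn2 hl, one_pow, mul_one] at this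
    exact ha this
  have hnz : ∀ (i : Fin n) (a : F), Pi.single i a ∈ A → a ≠ 0 → (i : ℕ) ≠ 0 := by
    intro i a ha ha0 hi
    obtain ⟨c, hc, hce⟩ := hfix _ (hW _ ha) (hne0 i a ha0) (hsingle i a ha)
    rw [eval_single hn hn2 hl, hi, pow_zero, pow_one] at hce
    have ha1 : a = 1 := (mul_eq_right₀ hc).mp hce
    refine hone ?_
    have : frobSum (Pi.single i a) = AddMonoidHom.id F := AddMonoidHom.ext fun x => by
      rw [eval_single hn hn2 hl, hi, ha1, pow_zero, pow_one, one_mul]
      rfl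
    exact this ▸ ha
  let Ai : Fin n → AddSubgroup F := fun i => A.comap (AddMonoidHom.single (fun _ : Fin n => F) i)
  have hAi : ∀ i, ∀ a ∈ Ai i, l * (l ^ (2 ^ (i : ℕ)))⁻¹ * a ∈ Ai i := by
    intro i a ha
    have h1 := hA _ ha
    show Pi.single i _ ∈ A
    convert h1 using 1
    funext k
    by_cases hk : k = i
    · subst hk
      simp [AddMonoidHom.single_apply]
    · simp [AddMonoidHom.single_apply, Pi.single_eq_of_ne hk]
  -- components have unique fixed points
  have huniq : ∀ (i : Fin n) (a c d : F), Pi.single i a ∈ A → a ≠ 0 → c ≠ 0 → d ≠ 0 →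
      frobSum (Pi.single i a) c = c → frobSum (Pi.single i a) d = d → c = d := by
    intro i a c d ha ha0 hc hd hce hde
    rw [eval_single hn hn2 hl] at hce hde
    refine fixed_unique hn hn2 hl (hnz i a ha ha0) (hAi i) ⟨a, ha, ha0⟩ (fun b hb hb0 => ?_) hc hd hce hde
    obtain ⟨e, he, hee⟩ := hfix _ (hW _ hb) (hne0 i b hb0) (hsingle i b hb)
    rw [AddMonoidHom.single_apply, eval_single hn hn2 hl] at hee
    exact ⟨e, he, hee⟩
  have hBfix : ∀ (i : Fin n) (a : F) (b : F →+ F), Pi.single i a ∈ A → b ∈ W →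
      frobSum (Pi.single i a) (B (frobSum (Pi.single i a)) b) = B (frobSum (Pi.single i a)) b := by
    intro i a b ha hb
    have h := hE _ (hW _ ha) b hb
    rw [hsingle i a ha, map_zero] at h
    exact (CharTwo.add_eq_zero.mp h.symm).symm
  have hBzero : ∀ (i j : Fin n) (a b : F), Pi.single i a ∈ A → Pi.single j b ∈ A →
      B (frobSum (Pi.single i a)) (frobSum (Pi.single j b)) = 0 := by
    intro i j a b ha hb
    by_cases hij : i = j
    · subst hij
      have h := hadd _ (hW _ ha) _ (hW _ hb)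
      rw [← frobSum_add, ← Pi.single_add, hsingle i a ha, hsingle i b hb,
        hsingle i _ (by rw [Pi.single_add]; exact A.add_mem ha hb), zero_add, zero_add] at h
      exact h.symm
    by_cases ha0 : a = 0
    · rw [ha0, Pi.single_zero, show frobSum (0 : Fin n → F) = 0 from map_zero Φ, hsymm 0 W.zero_mem _ (hW _ hb),
        hB0 _ (hW _ hb)]
    by_contra hne
    set x := frobSum (Pi.single i a) with hx
    set c₀ := B x (frobSum (Pi.single j b)) with hc₀
    have hb0 : b ≠ 0 := fun h => hne (by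
      rw [hc₀, h, Pi.single_zero, show frobSum (0 : Fin n → F) = 0 from map_zero Φ, hB0 _ (hW _ ha)])
    -- every value is `0` or `c₀`, and `c₀` is a fixed point of both
    have hfixj : ∀ b', Pi.single j b' ∈ A → B x (frobSum (Pi.single j b')) ≠ 0 →
        b' * c₀ ^ (2 ^ (j : ℕ)) = c₀ := by
      intro b' hb' hne'
      have h1 := hBfix i a _ ha (hW _ hb')
      have h2 := hBfix j b' x hb' (hW _ ha)
      rw [hsymm _ (hW _ hb') x (hW _ ha)] at h2
      have h3 := huniq i a _ c₀ ha ha0 hne' hne h1 (hBfix i a _ ha (hW _ hb))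
      rw [h3, eval_single hn hn2 hl] at h2
      exact h2
    have honly : ∀ b', Pi.single j b' ∈ A → B x (frobSum (Pi.single j b')) ≠ 0 → b' = b := fun b' hb' hne' =>
      mul_right_cancel₀ (pow_ne_zero _ hne) ((hfixj b' hb' hne').trans (hfixj b hb hne).symm)
    -- another member of the component
    obtain ⟨b₁, hb₁, hb₁0, hb₁b⟩ : ∃ b₁, Pi.single j b₁ ∈ A ∧ b₁ ≠ 0 ∧ b₁ ≠ b := by
      refine ⟨l * (l ^ (2 ^ (j : ℕ)))⁻¹ * b, hAi j b hb, mul_ne_zero (mul_ne_zero (l_ne_zero hn hn2 hl)
        (inv_ne_zero (pow_ne_zero _ (l_ne_zero hn hn2 hl)))) hb0, fun h => ?_⟩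
      have h1 : l * (l ^ (2 ^ (j : ℕ)))⁻¹ = 1 := (mul_eq_right₀ hb0).mp h
      refine hnz j b hb hb0 ?_
      have hl' : l = l ^ (2 ^ (j : ℕ)) := mul_inv_eq_one₀ (pow_ne_zero _ (l_ne_zero hn hn2 hl)) |>.mp h1
      have := pow_two_inj hn hn2 hl (i := j) (j := ⟨0, lt_of_lt_of_le (by norm_num) hn2⟩) fun t => by
        simp only [pow_zero, pow_one]
        by_cases ht : t = 0
        · simp [ht]
        · obtain ⟨k, rfl⟩ := hl t ht
          rw [← pow_mul, mul_comm, pow_mul, ← hl']
      exact congrArg Fin.val this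
    have h0 : B x (frobSum (Pi.single j b₁)) = 0 := by
      by_contra h
      exact hb₁b (honly b₁ hb₁ h)
    have h1 : Pi.single j (b + b₁) ∈ A := by rw [Pi.single_add]; exact A.add_mem hb hb₁
    have h2 := honly (b + b₁) h1 (by
      rw [Pi.single_add, frobSum_add, hB x (hW _ ha) _ (hW _ hb) _ (hW _ hb₁), h0, add_zero]
      exact hne)
    exact hb₁0 (add_eq_left.mp h2)
  -- sums of components
  have hsum : ∀ (s : Finset (Fin n)) (a : Fin n → F), a ∈ A →
      (∀ i, B (frobSum (Pi.single i (a i))) (frobSum (∑ k ∈ s, Pi.single k (a k))) = 0) ∧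
      φ (frobSum (∑ k ∈ s, Pi.single k (a k))) = 0 := by
    intro s a ha
    have hmem : ∀ t : Finset (Fin n), (∑ k ∈ t, Pi.single k (a k)) ∈ A := fun t =>
      A.sum_mem fun k _ => projection_mem hn hn2 hl hA ha k
    induction s using Finset.induction with
    | empty =>
      rw [Finset.sum_empty, show frobSum (0 : Fin n → F) = 0 from map_zero Φ]
      exact ⟨fun i => hB0 _ (hW _ (projection_mem hn hn2 hl hA ha i)), hφ0⟩
    | insert k s hk ih =>
      rw [Finset.sum_insert hk, frobSum_add]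
      refine ⟨fun i => ?_, ?_⟩
      · rw [hB _ (hW _ (projection_mem hn hn2 hl hA ha i)) _ (hW _ (projection_mem hn hn2 hl hA ha k)) _
            (hW _ (hmem s)),
          hBzero i k _ _ (projection_mem hn hn2 hl hA ha i) (projection_mem hn hn2 hl hA ha k), ih.1 i, add_zero]
      · rw [hadd _ (hW _ (projection_mem hn hn2 hl hA ha k)) _ (hW _ (hmem s)),
          hsingle k _ (projection_mem hn hn2 hl hA ha k), ih.2, ih.1 k, add_zero, add_zero]
  intro w hw
  obtain ⟨a, rfl⟩ := frobSum_surjective hn hn2 hl w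
  have h := (hsum Finset.univ a hw).2
  rwa [Finset.univ_sum_single] at h

end CfsgLib.SuzukiTwo
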