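import Cfsg.Prelude.Def_LieRecognition
import Cfsg.Agent.Lib.SuzukiTwo.Main

/-!
The order of a Suzuki 2-group.
-/

set_option autoImplicit false
set_option linter.unusedSectionVars false

namespace CfsgLib.SuzukiTwo

open scoped commutatorElement

universe u
variable {P : Type u} [Group P]

theorem exists_hyp (hP : Cfsg.IsSuzukiTwoGroup P) : Finite P ∧ ∃ k : MulAut P, Hyp P k ∧
    (∀ (i : ℕ) (x : P), x ≠ 1 → x * x = 1 → (k ^ i) x = x → k ^ i = 1) ∧ ∃ x y : P, x * y ≠ y * x := by
  obtain ⟨hfin, hp, hne, htwo, K, hK, htr⟩ := hP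
  haveI : Finite (MulAut P) := Finite.of_injective (fun a : MulAut P => (a : P → P)) DFunLike.coe_injective
  obtain ⟨⟨g, hg⟩, hgen⟩ := hK.exists_generator
  refine ⟨hfin, g, ⟨hp, fun x y hx1 hx hy1 hy => ?_, htwo⟩, fun i x hx1 hx he => ?_, hne⟩
  · obtain ⟨κ, hκ, -⟩ := htr x y hx1 hx hy1 hy
    obtain ⟨i, hi⟩ := (isOfFinOrder_of_finite (⟨g, hg⟩ : K)).mem_powers_iff_mem_zpowers.mpr (hgen κ)
    exact ⟨i, by
      rw [← hκ, ← show ((⟨g, hg⟩ : K) ^ i : K) = κ from hi, SubgroupClass.coe_pow]⟩
  · obtain ⟨κ, -, huniq⟩ := htr x x hx1 hx hx1 hx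
    have h1 : (⟨g, hg⟩ : K) ^ i = 1 := (huniq _ (by show (((⟨g, hg⟩ : K) ^ i : K) : MulAut P) x = x; rw [SubgroupClass.coe_pow]; exact he)).trans (huniq 1 rfl).symm
    exact congrArg Subtype.val h1

/-- A quadratic map on `GF(2)^d` with values in `GF(2)^n`, `d > 2 n`, has a nonzero zero. -/
theorem exists_zero_of_lt {W V : Type*} [AddCommGroup W] [AddCommGroup V] [Module (ZMod 2) W] [Module (ZMod 2) V]
    [Finite W] [Finite V] (q : W → V) (B : W →+ W →+ V) (hq : ∀ x y, q (x + y) = q x + q y + B x y)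
    (hdiag : ∀ x, B x x = 0) (hlt : 2 * Module.finrank (ZMod 2) V < Module.finrank (ZMod 2) W) :
    ∃ x, x ≠ 0 ∧ q x = 0 := by
  classical
  haveI : Fact (Nat.Prime 2) := ⟨Nat.prime_two⟩
  set d := Module.finrank (ZMod 2) W with hd
  set n := Module.finrank (ZMod 2) V with hn
  let bw := Module.finBasis (ZMod 2) W
  let bv := Module.finBasis (ZMod 2) V
  have hB0 : ∀ x, q 0 = 0 ∧ x + x = (0 : V) := fun x => by
    have h0 := hq 0 0
    rw [hdiag, add_zero, add_zero] at h0
    refine ⟨add_eq_left.mp h0.symm, ?_⟩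
    rw [← two_smul (ZMod 2) x, show (2 : ZMod 2) = 0 from rfl, zero_smul]
  have hsymm : ∀ x y, B x y + B y x = 0 := fun x y => by
    have h := hdiag (x + y)
    rwa [map_add, map_add, AddMonoidHom.add_apply, AddMonoidHom.add_apply, hdiag, hdiag, zero_add, add_zero,
      add_comm] at h
  -- a bilinear form with the same values on the diagonal
  let c : Fin d → Fin d → V := fun i j => if i = j then q (bw i) else if i < j then B (bw i) (bw j) else 0
  let b : W → W → V := fun x y => ∑ i, ∑ j, (bw.repr x i * bw.repr y j) • c i j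
  have hbl : ∀ x x' y, b (x + x') y = b x y + b x' y := fun x x' y => by
    simp only [b, map_add, Finsupp.add_apply, add_mul, add_smul, Finset.sum_add_distrib]
  have hbr : ∀ x y y', b x (y + y') = b x y + b x y' := fun x y y' => by
    simp only [b, map_add, Finsupp.add_apply, mul_add, add_smul, Finset.sum_add_distrib]
  have hbb : ∀ i j, b (bw i) (bw j) = c i j := fun i j => by
    simp only [b, Module.Basis.repr_self]
    rw [Finset.sum_eq_single i, Finset.sum_eq_single j]
    · rw [Finsupp.single_eq_same, Finsupp.single_eq_same, one_mul, one_smul]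
    · intro j' _ hj'
      rw [Finsupp.single_eq_of_ne hj', mul_zero, zero_smul]
    · simp
    · intro i' _ hi'
      simp [Finsupp.single_eq_of_ne hi']
    · simp
  let β : W →+ W →+ V :=
    AddMonoidHom.mk' (fun x => AddMonoidHom.mk' (fun y => b x y + b y x) fun y y' => by
      show b x (y + y') + b (y + y') x = _
      rw [hbr, hbl]; abel) fun x x' => AddMonoidHom.ext fun y => by
      show b (x + x') y + b y (x + x') = (b x y + b y x) + (b x' y + b y x')
      rw [hbl, hbr]; abel
  have hβB : ∀ i j, β (bw i) (bw j) = B (bw i) (bw j) := fun i j => by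
    show b (bw i) (bw j) + b (bw j) (bw i) = _
    rw [hbb, hbb]
    rcases lt_trichotomy i j with hij | hij | hij
    · simp [c, hij, hij.ne, hij.ne', not_lt.mpr hij.le]
    · subst hij
      rw [hdiag]
      exact (hB0 _).2
    · simp [c, hij, hij.ne, hij.ne', not_lt.mpr hij.le]
      exact (add_eq_zero_iff_eq_neg.mp (hsymm (bw j) (bw i))).trans (add_eq_zero_iff_neg_eq.mp (hB0 _).2)
  have hext : β = B := by
    have h1 : ∀ i, β (bw i) = B (bw i) := fun i => by
      have := bw.ext (f₁ := (β (bw i)).toZModLinearMap 2) (f₂ := (B (bw i)).toZModLinearMap 2) (hβB i)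
      exact AddMonoidHom.toZModLinearMap_injective 2 this
    refine AddMonoidHom.ext fun x => AddMonoidHom.ext fun y => ?_
    have := bw.ext (f₁ := ((AddMonoidHom.eval y).comp β).toZModLinearMap 2)
      (f₂ := ((AddMonoidHom.eval y).comp B).toZModLinearMap 2) fun i => DFunLike.congr_fun (h1 i) y
    exact LinearMap.congr_fun this x
  let δ : W →+ V := AddMonoidHom.mk' (fun x => q x + b x x) fun x y => by
    show q (x + y) + b (x + y) (x + y) = _
    rw [hq, hbl, hbr, hbr]
    have h2 : B x y + (b x y + b y x) = 0 := by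
      rw [show b x y + b y x = β x y from rfl, hext]
      exact (hB0 _).2
    calc q x + q y + B x y + (b x x + b x y + (b y x + b y y))
        = q x + b x x + (q y + b y y) + (B x y + (b x y + b y x)) := by abel
      _ = q x + b x x + (q y + b y y) := by rw [h2, add_zero]
  have hδ : δ = 0 := by
    have := bw.ext (f₁ := δ.toZModLinearMap 2) (f₂ := (0 : W →+ V).toZModLinearMap 2) fun i => by
      show q (bw i) + b (bw i) (bw i) = 0
      rw [hbb]
      simp only [c, if_true]
      exact (hB0 _).2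
    exact AddMonoidHom.toZModLinearMap_injective 2 this
  have hqb : ∀ x, q x = b x x := fun x => by
    have h := DFunLike.congr_fun hδ x
    exact (add_eq_zero_iff_eq_neg.mp h).trans (add_eq_zero_iff_neg_eq.mp (hB0 _).2)
  let f : Fin n → MvPolynomial (Fin d) (ZMod 2) := fun l =>
    ∑ i, ∑ j, MvPolynomial.C (bv.repr (c i j) l) * (MvPolynomial.X i * MvPolynomial.X j)
  have hdeg : ∀ l, (f l).totalDegree ≤ 2 := fun l => by
    refine MvPolynomial.totalDegree_finsetSum_le fun i _ => MvPolynomial.totalDegree_finsetSum_le fun j _ => ?_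
    refine (MvPolynomial.totalDegree_mul _ _).trans ?_
    rw [MvPolynomial.totalDegree_C, zero_add]
    refine (MvPolynomial.totalDegree_mul _ _).trans ?_
    rw [MvPolynomial.totalDegree_X, MvPolynomial.totalDegree_X]
  have heval : ∀ (x : W) l, MvPolynomial.eval (fun i => bw.repr x i) (f l) = bv.repr (q x) l := fun x l => by
    rw [hqb]
    simp only [f, b, map_sum, map_mul, MvPolynomial.eval_C, MvPolynomial.eval_X, map_smul, Finsupp.coe_finset_sum,
      Finset.sum_apply, Finsupp.coe_smul, Pi.smul_apply, smul_eq_mul]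
    exact Finset.sum_congr rfl fun i _ => Finset.sum_congr rfl fun j _ => mul_comm _ _
  have hdvd := char_dvd_card_solutions_of_fintype_sum_lt (K := ZMod 2) (σ := Fin d) 2 (f := f) (by
    rw [Fintype.card_fin]
    refine lt_of_le_of_lt (Finset.sum_le_card_nsmul _ _ 2 fun l _ => hdeg l) ?_
    rw [Finset.card_univ, Fintype.card_fin, smul_eq_mul, mul_comm]
    exact hlt)
  by_contra hno
  push Not at hno
  have hone : Fintype.card {x : Fin d → ZMod 2 // ∀ l, MvPolynomial.eval x (f l) = 0} = 1 := by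
    rw [Fintype.card_eq_one_iff]
    have hzero : ∀ l, MvPolynomial.eval (0 : Fin d → ZMod 2) (f l) = 0 := fun l => by
      simp [f]
    refine ⟨⟨0, hzero⟩, fun ⟨x, hx⟩ => Subtype.ext ?_⟩
    set w := bw.equivFun.symm x with hw
    have hrepr : (fun i => bw.repr w i) = x := bw.equivFun.apply_symm_apply x
    have hq0 : q w = 0 := bv.repr.injective (Finsupp.ext fun l => by
      rw [← heval, hrepr, hx, map_zero, Finsupp.zero_apply])
    by_contra hx0
    change x ≠ 0 at hx0
    exact hno w (fun hw0 => hx0 (by rw [← hrepr, hw0]; simp; rfl)) hq0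
  rw [Fintype.card_eq_nat_card] at hdvd hone
  rw [hone] at hdvd
  norm_num at hdvd

variable [Finite P] {k : MulAut P}

/-- The order of a group with a regular transitive automorphism of involutions. -/
theorem Hyp.card_eq (h : Hyp P k) (hreg : ∀ (i : ℕ) (x : P), x ≠ 1 → x * x = 1 → (k ^ i) x = x → k ^ i = 1)
    (hne : ∃ x y : P, x * y ≠ y * x) :
    Nat.card P = Nat.card (Subgroup.center P) ^ 2 ∨ Nat.card P = Nat.card (Subgroup.center P) ^ 3 := by
  classical
  haveI : Fact (Nat.Prime 2) := ⟨Nat.prime_two⟩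
  have hg := good P k h hne
  set Z := Subgroup.center P with hZ
  obtain ⟨n, hn⟩ := (IsPGroup.iff_card (p := 2) (G := Z)).mp (h.pgroup.to_subgroup Z)
  obtain ⟨D, hD⟩ := (IsPGroup.iff_card (p := 2) (G := P ⧸ Z)).mp (h.pgroup.to_quotient Z)
  have hcard : Nat.card P = 2 ^ D * 2 ^ n := by
    rw [Subgroup.card_eq_card_quotient_mul_card_subgroup Z, hD, hn]
  -- the automorphism on the quotient
  have hmapc : (Subgroup.center P).map (k : P →* P) = Subgroup.center P := by
    refine le_antisymm ?_ fun z hz => ?_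
    · rintro _ ⟨z, hz, rfl⟩
      exact center_invariant z hz
    · exact ⟨k⁻¹ z, center_invariant (k := k⁻¹) z hz, MulAut.apply_inv_self P k z⟩
  let kQ : MulAut (P ⧸ Z) := QuotientGroup.congr Z Z k hmapc
  have hkQ : ∀ (i : ℕ) (x : P), (kQ ^ i) (x : P ⧸ Z) = (((k ^ i) x : P) : P ⧸ Z) := by
    intro i
    induction i with
    | zero => intro x; rfl
    | succ i ih => intro x; rw [pow_succ', MulAut.mul_apply, ih, pow_succ', MulAut.mul_apply]; rfl
  haveI : Finite (MulAut P) := Finite.of_injective (fun a : MulAut P => (a : P → P)) DFunLike.coe_injective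
  have hsqc : ∀ x z : P, z ∈ Z → (x * z) * (x * z) = x * x := fun x z hz => by
    rw [show x * z * (x * z) = x * (z * x) * z by group, ← Subgroup.mem_center_iff.mp hz x,
      show x * (x * z) * z = x * x * (z * z) by group, hg.2 z hz, mul_one]
  have hfix : ∀ (i : ℕ) (w : P ⧸ Z), w ≠ 1 → (kQ ^ i) w = w → k ^ i = 1 := by
    intro i w hw he
    obtain ⟨x, rfl⟩ := QuotientGroup.mk_surjective w
    rw [hkQ, eq_comm, QuotientGroup.eq] at he
    refine hreg i (x * x) (fun h1 => hw ((QuotientGroup.eq_one_iff x).mpr (h.central h1))) (hg.2 _ (hg.1 x)) ?_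
    rw [map_mul]
    conv_rhs => rw [← hsqc x _ he, mul_inv_cancel_left]
  -- involutions
  set m := orderOf k with hm
  obtain ⟨x₀, -, -, hx₀1, hx₀, -, -⟩ := h.two
  have hmq : m = 2 ^ n - 1 := by
    have hbij : Nat.card {z : Z // z ≠ 1} = m := by
      rw [← Nat.card_fin m]
      refine (Nat.card_congr (Equiv.ofBijective (fun i : Fin m => (⟨⟨(k ^ (i : ℕ)) x₀,
        h.central (by rw [← map_mul, hx₀, map_one])⟩, fun he => hx₀1 ((k ^ (i : ℕ)).injective
          ((congrArg Subtype.val he).trans (map_one _).symm))⟩ : {z : Z // z ≠ 1})) ⟨fun i j he => ?_, ?_⟩)).symm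
      · have h1 : (k ^ (i : ℕ)) x₀ = (k ^ (j : ℕ)) x₀ :=
          congrArg (fun z : {z : Z // z ≠ 1} => ((z : Z) : P)) he
        have key : ∀ a b : ℕ, a ≤ b → b < m → (k ^ a) x₀ = (k ^ b) x₀ → a = b := by
          intro a b hab hb he
          obtain ⟨c, rfl⟩ := Nat.le.dest hab
          rw [pow_add, MulAut.mul_apply] at he
          have hc := hreg c x₀ hx₀1 hx₀ ((k ^ a).injective he).symm
          rcases Nat.eq_zero_or_pos c with hc0 | hc0
          · omega
          · exact absurd (Nat.le_of_dvd hc0 (orderOf_dvd_of_pow_eq_one hc)) (by omega)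
        rcases le_total (i : ℕ) j with hij | hij
        · exact Fin.ext (key _ _ hij j.2 h1)
        · exact Fin.ext (key _ _ hij i.2 h1.symm).symm
      · rintro ⟨⟨z, hz⟩, hz1⟩
        obtain ⟨i, hi⟩ := h.trans x₀ z hx₀1 hx₀ (fun he => hz1 (Subtype.ext he)) (hg.2 z hz)
        refine ⟨⟨i % m, Nat.mod_lt _ (orderOf_pos k)⟩, Subtype.ext (Subtype.ext ?_)⟩
        show (k ^ (i % m)) x₀ = z
        rw [hm, pow_mod_orderOf, hi]
    rw [← hbij]
    haveI := Fintype.ofFinite Z
    rw [Nat.card_eq_fintype_card, Fintype.card_subtype_compl, Fintype.card_subtype_eq, ← Nat.card_eq_fintype_card, hn]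
  -- the automorphism acts semiregularly on the quotient
  have hndvd : 2 ^ n - 1 ∣ 2 ^ D - 1 := by
    rw [← hmq]
    let G := Subgroup.zpowers kQ
    let α := {w : P ⧸ Z // w ≠ 1}
    letI act : MulAction G α :=
      { smul := fun g w => ⟨(g : MulAut (P ⧸ Z)) w, fun he =>
          w.2 ((g : MulAut (P ⧸ Z)).injective (he.trans (map_one _).symm))⟩
        one_smul := fun w => rfl
        mul_smul := fun g g' w => rfl }
    haveI : Finite (MulAut (P ⧸ Z)) :=
      Finite.of_injective (fun a : MulAut (P ⧸ Z) => (a : P ⧸ Z → P ⧸ Z)) DFunLike.coe_injective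
    have hord : orderOf kQ = m := by
      refine orderOf_eq_orderOf_iff.mpr fun i => ⟨fun hi => ?_, fun hi => ?_⟩
      · haveI : Nontrivial (P ⧸ Z) := by
          obtain ⟨x, y, hxy⟩ := hne
          exact ⟨(x : P ⧸ Z), 1, fun he => hxy
            (Subgroup.mem_center_iff.mp ((QuotientGroup.eq_one_iff _).mp he) y).symm⟩
        obtain ⟨w, hw⟩ := exists_ne (1 : P ⧸ Z)
        exact hfix i w hw (by rw [hi]; rfl)
      · refine MulEquiv.ext fun w => ?_
        obtain ⟨x, rfl⟩ := QuotientGroup.mk_surjective w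
        rw [hkQ, hi]
        rfl
    have hfree : ∀ w : α, MulAction.stabilizer G w = ⊥ := fun w => by
      rw [eq_bot_iff]
      rintro ⟨g, hg⟩ hgw
      obtain ⟨i, hi⟩ := (isOfFinOrder_of_finite kQ).mem_powers_iff_mem_zpowers.mpr hg
      rw [Subgroup.mem_bot]
      apply Subtype.ext
      show g = 1
      have h1 : k ^ i = 1 := hfix i w w.2 (by
        rw [show kQ ^ i = g from hi]
        exact congrArg Subtype.val (MulAction.mem_stabilizer_iff.mp hgw))
      rw [← show kQ ^ i = g from hi, ← orderOf_dvd_iff_pow_eq_one, hord, hm]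
      exact orderOf_dvd_of_pow_eq_one h1
    have hc := Nat.card_congr (MulAction.selfEquivOrbitsQuotientProd hfree)
    rw [Nat.card_prod, Nat.card_zpowers, hord] at hc
    haveI := Fintype.ofFinite (P ⧸ Z)
    have hα : Nat.card α = 2 ^ D - 1 := by
      rw [Nat.card_eq_fintype_card, Fintype.card_subtype_compl, Fintype.card_subtype_eq,
        ← Nat.card_eq_fintype_card, hD]
    rw [hα] at hc
    exact ⟨_, hc.trans (mul_comm _ _)⟩
  have hn1 : 1 ≤ n := by
    by_contra h0
    have hc : Nat.card Z = 1 := by rw [hn, show n = 0 by omega, pow_zero]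
    exact hx₀1 ((Subgroup.mem_bot).mp (Subgroup.card_eq_one.mp hc ▸ h.central hx₀))
  have hnD : n ∣ D := by
    have h1 := Nat.pow_sub_one_gcd_pow_sub_one 2 n D
    rw [Nat.gcd_eq_left hndvd] at h1
    have h2 : (2 : ℕ) ^ n = 2 ^ Nat.gcd n D := by
      have := Nat.one_le_two_pow (n := n)
      have := Nat.one_le_two_pow (n := Nat.gcd n D)
      omega
    exact Nat.gcd_eq_left_iff_dvd.mp (Nat.pow_right_injective le_rfl h2).symm
  -- the squaring map
  have hcomm : ∀ a b : P, ((a : P ⧸ Z)) * (b : P ⧸ Z) = (b : P ⧸ Z) * (a : P ⧸ Z) := fun a b => by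
    refine commutatorElement_eq_one_iff_mul_comm.mp ?_
    show ⁅QuotientGroup.mk' Z a, QuotientGroup.mk' Z b⁆ = 1
    rw [← map_commutatorElement]
    exact (QuotientGroup.eq_one_iff _).mpr (hg.commutator_mem a b)
  letI : CommGroup (P ⧸ Z) := { (inferInstance : Group (P ⧸ Z)) with
    mul_comm := fun a b => by
      obtain ⟨a, rfl⟩ := QuotientGroup.mk_surjective a
      obtain ⟨b, rfl⟩ := QuotientGroup.mk_surjective b
      exact hcomm a b }
  letI : CommGroup Z := { (inferInstance : Group Z) with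
    mul_comm := fun a b => Subtype.ext (Subgroup.mem_center_iff.mp b.2 a) }
  letI : Module (ZMod 2) (Additive (P ⧸ Z)) := AddCommGroup.zmodModule (n := 2) (fun w => by
    show Additive.ofMul ((Additive.toMul w) ^ 2) = 0
    obtain ⟨x, hx⟩ := QuotientGroup.mk_surjective (Additive.toMul w)
    rw [← hx, pow_two, ← QuotientGroup.mk_mul]
    exact congrArg Additive.ofMul ((QuotientGroup.eq_one_iff _).mpr (hg.1 x)))
  letI : Module (ZMod 2) (Additive Z) := AddCommGroup.zmodModule (n := 2) (fun w => by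
    show Additive.ofMul ((Additive.toMul w) ^ 2) = 0
    refine congrArg Additive.ofMul (Subtype.ext ?_)
    rw [SubmonoidClass.coe_pow, pow_two]
    exact hg.2 _ (Additive.toMul w).2)
  have hfinW : Module.finrank (ZMod 2) (Additive (P ⧸ Z)) = D := by
    haveI := Fintype.ofFinite (Additive (P ⧸ Z))
    have h1 := Module.card_eq_pow_finrank (K := ZMod 2) (V := Additive (P ⧸ Z))
    rw [ZMod.card, ← Nat.card_eq_fintype_card, show Nat.card (Additive (P ⧸ Z)) = Nat.card (P ⧸ Z) from rfl, hD] at h1
    exact (Nat.pow_right_injective le_rfl h1).symm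
  have hfinV : Module.finrank (ZMod 2) (Additive Z) = n := by
    haveI := Fintype.ofFinite (Additive Z)
    have h1 := Module.card_eq_pow_finrank (K := ZMod 2) (V := Additive Z)
    rw [ZMod.card, ← Nat.card_eq_fintype_card, show Nat.card (Additive Z) = Nat.card Z from rfl, hn] at h1
    exact (Nat.pow_right_injective le_rfl h1).symm
  let q : Additive (P ⧸ Z) → Additive Z := fun w =>
    Additive.ofMul ⟨(Additive.toMul w).out * (Additive.toMul w).out, hg.1 _⟩
  have hout : ∀ x : P, (x : P ⧸ Z).out * (x : P ⧸ Z).out = x * x := fun x => by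
    have h1 : x⁻¹ * (x : P ⧸ Z).out ∈ Z := QuotientGroup.eq.mp (QuotientGroup.out_eq' _).symm
    rw [← hsqc x _ h1, mul_inv_cancel_left]
  have hcw : ∀ a a' b b' : P, (a : P ⧸ Z) = a' → (b : P ⧸ Z) = b' → ⁅a, b⁆ = ⁅a', b'⁆ := fun a a' b b' ha hb => by
    rw [show a' = a * (a⁻¹ * a') by group, show b' = b * (b⁻¹ * b') by group,
      commutator_left, commutator_center_left (QuotientGroup.eq.mp ha), commutator_right]
    have h2 : ⁅a, b⁻¹ * b'⁆ = 1 := by
      rw [← commutatorElement_inv, commutator_center_left (QuotientGroup.eq.mp hb), inv_one]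
    rw [h2]
    group
  have hbl : ∀ a a' b : P, ⁅a * a', b⁆ = ⁅a, b⁆ * ⁅a', b⁆ := fun a a' b => by
    rw [commutator_left_central (hg.commutator_mem a' b), (mem_center_comm (hg.commutator_mem a b) _).eq]
  let B : Additive (P ⧸ Z) →+ Additive (P ⧸ Z) →+ Additive Z :=
    AddMonoidHom.mk' (fun v => AddMonoidHom.mk' (fun w =>
      Additive.ofMul (⟨⁅(Additive.toMul v).out, (Additive.toMul w).out⁆, hg.commutator_mem _ _⟩ : Z))
      fun w w' => congrArg Additive.ofMul (Subtype.ext (by
        show ⁅_, _⁆ = ⁅_, _⁆ * ⁅_, _⁆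
        rw [← commutator_right_central (hg.commutator_mem _ _)]
        exact hcw _ _ _ _ rfl (by rw [QuotientGroup.out_eq', QuotientGroup.mk_mul, QuotientGroup.out_eq',
          QuotientGroup.out_eq']; rfl))))
      fun v v' => AddMonoidHom.ext fun w => congrArg Additive.ofMul (Subtype.ext (by
        show ⁅_, _⁆ = ⁅_, _⁆ * ⁅_, _⁆
        rw [← hbl]
        exact hcw _ _ _ _ (by rw [QuotientGroup.out_eq', QuotientGroup.mk_mul, QuotientGroup.out_eq',
          QuotientGroup.out_eq']; rfl) rfl))
  have hq : ∀ v w, q (v + w) = q v + q w + B v w := by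
    intro v w
    obtain ⟨a, ha⟩ := QuotientGroup.mk_surjective (Additive.toMul v)
    obtain ⟨b, hb⟩ := QuotientGroup.mk_surjective (Additive.toMul w)
    refine congrArg Additive.ofMul (Subtype.ext ?_)
    show (Additive.toMul v * Additive.toMul w).out * (Additive.toMul v * Additive.toMul w).out =
      (Additive.toMul v).out * (Additive.toMul v).out * ((Additive.toMul w).out * (Additive.toMul w).out) *
        ⁅(Additive.toMul v).out, (Additive.toMul w).out⁆
    rw [← ha, ← hb, ← QuotientGroup.mk_mul, hout, hout, hout,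
      hcw _ a _ b (QuotientGroup.out_eq' _) (QuotientGroup.out_eq' _)]
    have hc := hg.commutator_mem a b
    have hc2 : ⁅b, a⁆ = ⁅a, b⁆ := by
      rw [← commutatorElement_inv, inv_eq_of_mul_eq_one_left]
      exact hg.2 _ hc
    rw [show a * b * (a * b) = a * (⁅b, a⁆ * a) * b * b by simp only [commutatorElement_def]; group, hc2,
      ← Subgroup.mem_center_iff.mp hc a, ← mul_assoc a a,
      show a * a * ⁅a, b⁆ * b * b = a * a * (⁅a, b⁆ * (b * b)) by group, ← Subgroup.mem_center_iff.mp hc (b * b)]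
    group
  have hle : D ≤ 2 * n := by
    by_contra hlt
    obtain ⟨v, hv, hqv⟩ := exists_zero_of_lt q B hq (fun v => congrArg Additive.ofMul
      (Subtype.ext (commutatorElement_self _))) (by rw [hfinW, hfinV]; omega)
    obtain ⟨a, ha⟩ := QuotientGroup.mk_surjective (Additive.toMul v)
    have h1 : (Additive.toMul v).out * (Additive.toMul v).out = 1 :=
      congrArg (fun z : Additive Z => ((Additive.toMul z : Z) : P)) hqv
    refine hv (Additive.toMul.injective ?_)
    rw [← QuotientGroup.out_eq' (Additive.toMul v)]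
    exact (QuotientGroup.eq_one_iff _).mpr (h.central h1)
  obtain ⟨t, ht⟩ := hnD
  have ht0 : t ≠ 0 := fun h0 => by
    obtain ⟨x, y, hxy⟩ := hne
    have hone : Nat.card (P ⧸ Z) = 1 := by rw [hD, ht, h0, mul_zero, pow_zero]
    haveI := (Nat.card_eq_one_iff_unique.mp hone).1
    exact hxy (Subgroup.mem_center_iff.mp ((QuotientGroup.eq_one_iff x).mp (Subsingleton.elim _ _)) y).symm
  have ht2 : t ≤ 2 := Nat.le_of_mul_le_mul_left (by linarith) hn1
  obtain rfl | rfl : t = 1 ∨ t = 2 := by omega
  · left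
    rw [hcard, ht, hn, mul_one, sq]
  · right
    rw [hcard, ht, hn, ← pow_add, ← pow_mul]
    congr 1

end CfsgLib.SuzukiTwo
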