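/-
Central extensions with a prescribed squaring map are of type A.
-/
import Cfsg.Prelude.Def_LieRecognition
import Mathlib

set_option autoImplicit false
set_option linter.unusedSectionVars false
set_option maxHeartbeats 600000

namespace CfsgLib.SuzukiTwo

variable {F : Type*} [Field F] [CharP F 2] (φ : F →+* F)

/-- The matrix with coordinates `x`, `y`. -/
def tri (x y : F) : Matrix (Fin 3) (Fin 3) F := !![1, 0, 0; x, 1, 0; y, φ x, 1]

theorem tri_mul (x y x' y' : F) : tri φ x y * tri φ x' y' = tri φ (x + x') (y + y' + φ x * x') := by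
  ext i j
  fin_cases i <;> fin_cases j <;> simp [tri, Matrix.mul_apply, Fin.sum_univ_three, map_add] <;> ring

theorem tri_zero : tri φ 0 0 = 1 := by
  ext i j
  fin_cases i <;> fin_cases j <;> simp [tri]

/-- The matrix as a unit. -/
def triU (x y : F) : GL (Fin 3) F :=
  ⟨tri φ x y, tri φ x (y + φ x * x),
    by rw [tri_mul, CharTwo.add_self_eq_zero, show y + (y + φ x * x) + φ x * x = (y + φ x * x) + (y + φ x * x) by ring,
      CharTwo.add_self_eq_zero, tri_zero],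
    by rw [tri_mul, CharTwo.add_self_eq_zero, show y + φ x * x + y + φ x * x = (y + φ x * x) + (y + φ x * x) by ring,
      CharTwo.add_self_eq_zero, tri_zero]⟩

theorem triU_mul (x y x' y' : F) : triU φ x y * triU φ x' y' = triU φ (x + x') (y + y' + φ x * x') :=
  Units.ext (tri_mul φ x y x' y')

theorem triU_zero : triU φ 0 0 = 1 := Units.ext (tri_zero φ)

theorem triU_inj {x y x' y' : F} (h : triU φ x y = triU φ x' y') : x = x' ∧ y = y' := by
  have h' := congrArg (fun g : GL (Fin 3) F => (g : Matrix (Fin 3) (Fin 3) F)) h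
  refine ⟨?_, ?_⟩
  · simpa [triU, tri] using congrFun (congrFun h' 1) 0
  · simpa [triU, tri] using congrFun (congrFun h' 2) 0

theorem triU_inv (x y : F) : (triU φ x y)⁻¹ = triU φ x (y + φ x * x) := Units.ext rfl

/-- The group of all these matrices. -/
def triGroup : Subgroup (GL (Fin 3) F) where
  carrier := Set.range fun p : F × F => triU φ p.1 p.2
  one_mem' := ⟨(0, 0), triU_zero φ⟩
  mul_mem' := by
    rintro _ _ ⟨p, rfl⟩ ⟨p', rfl⟩
    exact ⟨(p.1 + p'.1, p.2 + p'.2 + φ p.1 * p'.1), (triU_mul φ _ _ _ _).symm⟩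
  inv_mem' := by
    rintro _ ⟨p, rfl⟩
    exact ⟨(p.1, p.2 + φ p.1 * p.1), (triU_inv φ _ _).symm⟩

theorem suzukiTypeA_eq : Cfsg.suzukiTypeA F φ = triGroup φ := by
  refine le_antisymm ((Subgroup.closure_le _).mpr ?_) fun g hg => ?_
  · rintro g ⟨x, y, h⟩
    exact ⟨(x, y), Units.ext h.symm⟩
  · obtain ⟨p, rfl⟩ := hg
    exact Subgroup.subset_closure ⟨p.1, p.2, rfl⟩

/-- A central extension whose squaring map is `x ↦ φ x * x` is of type A, compatibly with the given maps. -/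
theorem exists_iso_compat [Finite F] {P : Type*} [Group P] [Finite P] (π : P → F)
    (hπ : ∀ a b, π (a * b) = π a + π b) (hπs : Function.Surjective π)
    (hker : ∀ p, π p = 0 ↔ p ∈ Subgroup.center P)
    (ζ : Subgroup.center P → F) (hζ : ∀ a b, ζ (a * b) = ζ a + ζ b) (hζi : Function.Injective ζ)
    (hζs : Function.Surjective ζ)
    (hsqmem : ∀ p : P, p * p ∈ Subgroup.center P)
    (hsq : ∀ p : P, ζ ⟨p * p, hsqmem p⟩ = φ (π p) * π p) :
    ∃ ι : P ≃* triGroup φ, (∀ p : P, ∃ y, ((ι p : triGroup φ) : GL (Fin 3) F) = triU φ (π p) y) ∧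
      ∀ z : Subgroup.center P, ((ι (z : P) : triGroup φ) : GL (Fin 3) F) = triU φ 0 (ζ z) := by
  have hπ1 : π 1 = 0 := (hker 1).mpr (one_mem _)
  have hπi : ∀ a, π a⁻¹ = π a := fun a => by
    have := hπ a⁻¹ a
    rw [inv_mul_cancel, hπ1] at this
    exact CharTwo.add_eq_zero.mp this.symm
  have hζ1 : ζ 1 = 0 := by
    have := hζ 1 1
    rw [mul_one, CharTwo.add_self_eq_zero] at this
    exact this
  let A := triGroup φ
  let mkA : F → F → A := fun x y => ⟨triU φ x y, (x, y), rfl⟩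
  have mk_mul : ∀ x y x' y', mkA x y * mkA x' y' = mkA (x + x') (y + y' + φ x * x') := fun x y x' y' =>
    Subtype.ext (triU_mul φ x y x' y')
  have mk_zero : mkA 0 0 = 1 := Subtype.ext (triU_zero φ)
  have mk_inv : ∀ x y, (mkA x y)⁻¹ = mkA x (y + φ x * x) := fun x y => Subtype.ext (triU_inv φ x y)
  have mk_surj : ∀ a : A, ∃ x y, a = mkA x y := by
    rintro ⟨_, ⟨x, y⟩, rfl⟩
    exact ⟨x, y, rfl⟩
  have mk_inj : ∀ {x y x' y'}, mkA x y = mkA x' y' → x = x' ∧ y = y' := fun h => triU_inj φ (congrArg Subtype.val h)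
  -- the fibre product
  let R : Subgroup (P × A) :=
    { carrier := {r | ∃ y, r.2 = mkA (π r.1) y}
      one_mem' := ⟨0, by show (1 : A) = mkA (π 1) 0; rw [hπ1, mk_zero]⟩
      mul_mem' := by
        rintro ⟨p, a⟩ ⟨p', a'⟩ ⟨y, hy⟩ ⟨y', hy'⟩
        refine ⟨y + y' + φ (π p) * π p', ?_⟩
        show a * a' = mkA (π (p * p')) _
        rw [show a = mkA (π p) y from hy, show a' = mkA (π p') y' from hy', mk_mul, hπ]
      inv_mem' := by
        rintro ⟨p, a⟩ ⟨y, hy⟩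
        refine ⟨y + φ (π p) * π p, ?_⟩
        show a⁻¹ = mkA (π p⁻¹) _
        rw [show a = mkA (π p) y from hy, mk_inv, hπi] }
  let D : Subgroup (P × A) :=
    { carrier := {r | ∃ z : Subgroup.center P, r = ((z : P), mkA 0 (ζ z))}
      one_mem' := ⟨1, Prod.ext rfl (by show (1 : A) = mkA 0 (ζ 1); rw [hζ1, mk_zero])⟩
      mul_mem' := by
        rintro _ _ ⟨z, rfl⟩ ⟨z', rfl⟩
        refine ⟨z * z', Prod.ext rfl ?_⟩
        show mkA 0 (ζ z) * mkA 0 (ζ z') = mkA 0 (ζ (z * z'))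
        rw [mk_mul, hζ, add_zero, map_zero, zero_mul, add_zero]
      inv_mem' := by
        rintro _ ⟨z, rfl⟩
        refine ⟨z⁻¹, Prod.ext rfl ?_⟩
        show (mkA 0 (ζ z))⁻¹ = mkA 0 (ζ z⁻¹)
        have := hζ z⁻¹ z
        rw [inv_mul_cancel, hζ1] at this
        rw [mk_inv, map_zero, zero_mul, add_zero, CharTwo.add_eq_zero.mp this.symm] }
  let N : Subgroup (P × A) :=
    { carrier := {r | r.1 ∈ Subgroup.center P ∧ r.2 = 1}
      one_mem' := ⟨one_mem _, rfl⟩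
      mul_mem' := fun {a b} ha hb => ⟨mul_mem ha.1 hb.1, by show a.2 * b.2 = 1; rw [ha.2, hb.2, one_mul]⟩
      inv_mem' := fun {a} ha => ⟨inv_mem ha.1, by show a.2⁻¹ = 1; rw [ha.2, inv_one]⟩ }
  have hNR : N ≤ R := fun r hr => ⟨0, by rw [hr.2, (hker _).mpr hr.1, mk_zero]⟩
  have hDR : D ≤ R := by
    rintro _ ⟨z, rfl⟩
    exact ⟨ζ z, by show mkA 0 (ζ z) = mkA (π z) (ζ z); rw [(hker _).mpr z.2]⟩
  have hDc : ∀ d ∈ D, ∀ r ∈ R, r * d = d * r := by
    rintro _ ⟨z, rfl⟩ ⟨p, a⟩ ⟨y, hy⟩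
    refine Prod.ext (Subgroup.mem_center_iff.mp z.2 p) ?_
    show a * mkA 0 (ζ z) = mkA 0 (ζ z) * a
    rw [show a = mkA (π p) y from hy, mk_mul, mk_mul, map_zero, zero_mul, mul_zero, add_zero, zero_add, add_zero,
      add_zero, add_comm y]
  have hsqD : ∀ r ∈ R, r * r ∈ D := by
    rintro ⟨p, a⟩ ⟨y, hy⟩
    refine ⟨⟨p * p, hsqmem p⟩, Prod.ext rfl ?_⟩
    show a * a = mkA 0 (ζ ⟨p * p, hsqmem p⟩)
    rw [show a = mkA (π p) y from hy, mk_mul, hsq, CharTwo.add_self_eq_zero, CharTwo.add_self_eq_zero, zero_add]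
  have hcommD : ∀ r ∈ R, ∀ s ∈ R, r * s * r⁻¹ * s⁻¹ ∈ D := by
    intro r hr s hs
    have h2 : (r * r)⁻¹ ∈ D := inv_mem (hsqD r hr)
    have e : r * s * r⁻¹ * s⁻¹ = r * s * (r * s) * (r * r)⁻¹ * (s * s)⁻¹ := by
      calc r * s * r⁻¹ * s⁻¹ = r * s * (r * s) * (s⁻¹ * (r * r)⁻¹) * s⁻¹ := by group
        _ = r * s * (r * s) * ((r * r)⁻¹ * s⁻¹) * s⁻¹ := by rw [hDc _ h2 _ (inv_mem hs)]
        _ = _ := by group
    rw [e]
    exact mul_mem (mul_mem (hsqD _ (mul_mem hr hs)) h2) (inv_mem (hsqD s hs))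
  -- a maximal partner of the centre
  obtain ⟨L, ⟨hDL, hLR, hLN⟩, hmax⟩ := (wellFounded_gt (α := Subgroup (P × A))).has_min
    {L | D ≤ L ∧ L ≤ R ∧ L ⊓ N = ⊥} ⟨D, le_rfl, hDR, by
      rw [Subgroup.eq_bot_iff_forall]
      rintro r hr
      obtain ⟨⟨z, rfl⟩, -, hz⟩ := hr
      have := mk_inj (hz.trans mk_zero.symm)
      have hz1 : z = 1 := hζi (this.2.trans hζ1.symm)
      exact Prod.ext (by rw [hz1]; rfl) hz⟩
  have htop : ∀ r ∈ R, ∃ l ∈ L, ∃ m ∈ N, r = l * m := by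
    intro r hr
    by_cases hrL : r ∈ L
    · exact ⟨r, hrL, 1, one_mem _, (mul_one r).symm⟩
    have hrr : r * r ∈ L := hDL (hsqD r hr)
    have hconj : ∀ l ∈ L, r * l * r⁻¹ ∈ L := fun l hl => by
      have := mul_mem (hDL (hcommD r hr l (hLR hl))) hl
      rwa [inv_mul_cancel_right] at this
    have hconj' : ∀ l ∈ L, r⁻¹ * l * r ∈ L := fun l hl => by
      have := mul_mem (mul_mem (inv_mem hrr) (hconj l hl)) hrr
      rwa [show (r * r)⁻¹ * (r * l * r⁻¹) * (r * r) = r⁻¹ * l * r by group] at this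
    let L' : Subgroup (P × A) :=
      { carrier := {g | g ∈ L ∨ ∃ l ∈ L, g = l * r}
        one_mem' := Or.inl (one_mem _)
        mul_mem' := by
          rintro a b (ha | ⟨l, hl, rfl⟩) (hb | ⟨l', hl', rfl⟩)
          · exact Or.inl (mul_mem ha hb)
          · exact Or.inr ⟨a * l', mul_mem ha hl', (mul_assoc _ _ _).symm⟩
          · exact Or.inr ⟨l * (r * b * r⁻¹), mul_mem hl (hconj b hb), by group⟩
          · refine Or.inl ?_
            rw [show l * r * (l' * r) = l * (r * l' * r⁻¹) * (r * r) by group]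
            exact mul_mem (mul_mem hl (hconj l' hl')) hrr
        inv_mem' := by
          rintro a (ha | ⟨l, hl, rfl⟩)
          · exact Or.inl (inv_mem ha)
          · refine Or.inr ⟨r⁻¹ * l⁻¹ * r * (r * r)⁻¹, mul_mem (hconj' _ (inv_mem hl)) (inv_mem hrr), ?_⟩
            group }
    have hne : L' ⊓ N ≠ ⊥ := by
      intro hbot
      refine hmax L' ⟨hDL.trans fun g hg => Or.inl hg, fun g hg => ?_, hbot⟩ ?_
      · rcases hg with hg | ⟨l, hl, rfl⟩
        · exact hLR hg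
        · exact mul_mem (hLR hl) hr
      · exact lt_of_le_of_ne (fun g hg => Or.inl hg) fun e => hrL (e ▸ Or.inr ⟨1, one_mem _, (one_mul r).symm⟩)
    obtain ⟨g, ⟨hg, hgN⟩, hg1⟩ := (Subgroup.bot_or_exists_ne_one _).resolve_left hne
    rcases hg with hg | ⟨l, hl, rfl⟩
    · exact absurd ((Subgroup.mem_bot).mp (hLN ▸ Subgroup.mem_inf.mpr ⟨hg, hgN⟩)) hg1
    · exact ⟨l⁻¹, inv_mem hl, l * r, hgN, (inv_mul_cancel_left l r).symm⟩
  let f₁ : L →* P := (MonoidHom.fst P A).comp L.subtype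
  let f₂ : L →* A := (MonoidHom.snd P A).comp L.subtype
  have hker1 : ∀ r ∈ L, r.1 = 1 → r = 1 := by
    rintro ⟨p, a⟩ hr (rfl : p = 1)
    obtain ⟨y, hy⟩ := hLR hr
    obtain ⟨z, rfl⟩ := hζs y
    have ha : a = mkA 0 (ζ z) := by rw [show a = mkA (π 1) (ζ z) from hy, hπ1]
    subst ha
    have hd : (((z : P), mkA 0 (ζ z)) : P × A) ∈ L := hDL ⟨z, rfl⟩
    have hmem : ((((z : P)), (1 : A)) : P × A) ∈ L ⊓ N := by
      refine Subgroup.mem_inf.mpr ⟨?_, z.2, rfl⟩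
      have := mul_mem hd (inv_mem hr)
      simpa using this
    rw [hLN, Subgroup.mem_bot] at hmem
    have hz : z = 1 := Subtype.ext (congrArg Prod.fst hmem)
    rw [hz, hζ1, mk_zero]
    rfl
  have hker2 : ∀ r ∈ L, r.2 = 1 → r = 1 := by
    rintro ⟨p, a⟩ hr (rfl : a = 1)
    obtain ⟨y, hy⟩ := hLR hr
    have hp : π p = 0 := (mk_inj (mk_zero.trans hy)).1.symm
    have : ((p, (1 : A)) : P × A) ∈ L ⊓ N := Subgroup.mem_inf.mpr ⟨hr, (hker p).mp hp, rfl⟩
    rw [hLN, Subgroup.mem_bot] at this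
    exact this
  have hb₁ : Function.Bijective f₁ := by
    refine ⟨(injective_iff_map_eq_one f₁).mpr fun r hr => Subtype.ext (hker1 r.1 r.2 hr), fun p => ?_⟩
    obtain ⟨l, hl, m, hm, e⟩ := htop (p, mkA (π p) 0) ⟨0, rfl⟩
    have hd : ((m.1, mkA 0 (ζ ⟨m.1, hm.1⟩)) : P × A) ∈ L := hDL ⟨⟨m.1, hm.1⟩, rfl⟩
    exact ⟨⟨_, mul_mem hl hd⟩, (congrArg Prod.fst e).symm⟩
  have hb₂ : Function.Bijective f₂ := by
    refine ⟨(injective_iff_map_eq_one f₂).mpr fun r hr => Subtype.ext (hker2 r.1 r.2 hr), fun a => ?_⟩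
    obtain ⟨x, y, rfl⟩ := mk_surj a
    obtain ⟨p, rfl⟩ := hπs x
    obtain ⟨l, hl, m, hm, e⟩ := htop (p, mkA (π p) y) ⟨y, rfl⟩
    refine ⟨⟨l, hl⟩, ?_⟩
    have := congrArg Prod.snd e
    simp only [Prod.snd_mul, hm.2, mul_one] at this
    exact this.symm
  refine ⟨(MulEquiv.ofBijective f₁ hb₁).symm.trans (MulEquiv.ofBijective f₂ hb₂), fun p => ?_, fun z => ?_⟩
  · obtain ⟨l, rfl⟩ := hb₁.2 p
    obtain ⟨y, hy⟩ := hLR l.2
    refine ⟨y, ?_⟩
    rw [MulEquiv.trans_apply,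
      show (MulEquiv.ofBijective f₁ hb₁).symm (f₁ l) = l from MulEquiv.symm_apply_apply _ l]
    exact congrArg Subtype.val hy
  · have hl : (((z : P), mkA 0 (ζ z)) : P × A) ∈ L := hDL ⟨z, rfl⟩
    rw [MulEquiv.trans_apply, show (MulEquiv.ofBijective f₁ hb₁).symm (z : P) = ⟨_, hl⟩ from
      (MulEquiv.ofBijective f₁ hb₁).symm_apply_eq.mpr rfl]
    rfl

/-- A central extension whose squaring map is `x ↦ φ x * x` is of type A. -/
theorem exists_iso [Finite F] {P : Type*} [Group P] [Finite P] (π : P → F)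
    (hπ : ∀ a b, π (a * b) = π a + π b) (hπs : Function.Surjective π)
    (hker : ∀ p, π p = 0 ↔ p ∈ Subgroup.center P)
    (ζ : Subgroup.center P → F) (hζ : ∀ a b, ζ (a * b) = ζ a + ζ b) (hζi : Function.Injective ζ)
    (hζs : Function.Surjective ζ)
    (hsqmem : ∀ p : P, p * p ∈ Subgroup.center P)
    (hsq : ∀ p : P, ζ ⟨p * p, hsqmem p⟩ = φ (π p) * π p) :
    Nonempty (P ≃* Cfsg.suzukiTypeA F φ) := by
  rw [suzukiTypeA_eq]
  obtain ⟨ι, -, -⟩ := exists_iso_compat φ π hπ hπs hker ζ hζ hζi hζs hsqmem hsq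
  exact ⟨ι⟩

end CfsgLib.SuzukiTwo
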