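/-
Suzuki 2-groups of order the square of the order of the centre: the exponent of the squaring map,
and the type.
-/
import Cfsg.Agent.Lib.SuzukiTwo.Component
import Cfsg.Agent.Lib.SuzukiTwo.RankTwo
import Cfsg.Agent.Lib.SuzukiTwo.Order
import Cfsg.Agent.Lib.SuzukiTwo.TypeA

set_option autoImplicit false
set_option linter.unusedSectionVars false
set_option maxHeartbeats 1000000

namespace CfsgLib.SuzukiTwo

open Polynomial
open scoped commutatorElement

universe u

section Field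

variable {F : Type*} [Field F] [Finite F] [CharP F 2]
variable {n : ℕ} (hn : Nat.card F = 2 ^ n) (hn2 : 2 ≤ n) {l : F} (hl : ∀ t : F, t ≠ 0 → ∃ i : ℕ, l ^ i = t)

include hn hn2 hl

/-- A power map whose second difference is additive has exponent of weight at most two. -/
theorem weight_two {k : ℕ} (hk : 1 ≤ k) (hkq : k < 2 ^ n - 1)
    (hadd : ∀ s t : F, (s + t + 1) ^ k + (s + t) ^ k + 1 =
      ((s + 1) ^ k + s ^ k + 1) + ((t + 1) ^ k + t ^ k + 1)) :
    (∃ v, k = 2 ^ v) ∨ ∃ v u, 1 ≤ u ∧ k = 2 ^ v * (2 ^ u + 1) := by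
  classical
  haveI := Fintype.ofFinite F
  haveI : Fact (Nat.Prime 2) := ⟨Nat.prime_two⟩
  obtain ⟨v, o, ho, rfl⟩ := Nat.exists_eq_pow_mul_and_not_dvd (n := k) (by omega) 2 (by norm_num)
  by_cases ho1 : o = 1
  · exact Or.inl ⟨v, by rw [ho1, mul_one]⟩
  have hoodd : Odd o := Nat.not_even_iff_odd.mp fun h => ho (even_iff_two_dvd.mp h)
  set ψ : F → F := fun r => (r + 1) ^ o + r ^ o + 1 with hψ
  have hψv : ∀ r : F, ψ r ^ 2 ^ v = (r + 1) ^ (2 ^ v * o) + r ^ (2 ^ v * o) + 1 := fun r => by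
    rw [hψ, add_pow_char_pow, add_pow_char_pow, one_pow, ← pow_mul, ← pow_mul, mul_comm o]
  have hψadd : ∀ s t : F, ψ (s + t) = ψ s + ψ t := fun s t => by
    have h1 : ψ (s + t) ^ 2 ^ v = (ψ s + ψ t) ^ 2 ^ v := by
      rw [add_pow_char_pow (ψ s) (ψ t) 2, hψv, hψv, hψv]
      exact hadd s t
    exact (iterateFrobenius_inj F 2 v) (by simpa [iterateFrobenius_def] using h1)
  obtain ⟨a, ha⟩ := frobSum_surjective hn hn2 hl (AddMonoidHom.mk' ψ hψadd)
  set p : F[X] := (X + 1) ^ o - X ^ o - 1 - ∑ i : Fin n, C (a i) * X ^ (2 ^ (i : ℕ)) with hp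
  have hoq : o < 2 ^ n - 1 := lt_of_le_of_lt (Nat.le_mul_of_pos_left _ (by positivity)) hkq
  have hcard : Fintype.card F = 2 ^ n := by rw [← hn, Nat.card_eq_fintype_card]
  have hp0 : p = 0 := by
    refine Polynomial.eq_zero_of_natDegree_lt_card_of_eval_eq_zero' p Finset.univ (fun t _ => ?_) ?_
    · have := DFunLike.congr_fun ha t
      rw [frobSum_apply] at this
      simp only [hp, eval_sub, eval_pow, eval_add, eval_X, eval_one, eval_finsetSum, eval_mul, eval_C]
      rw [this]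
      show (t + 1) ^ o - t ^ o - 1 - ((t + 1) ^ o + t ^ o + 1) = 0
      simp only [CharTwo.sub_eq_add]
      exact CharTwo.add_self_eq_zero _
    · rw [Finset.card_univ, hcard]
      refine lt_of_le_of_lt (natDegree_le_iff_degree_le.mpr ((degree_le_iff_coeff_zero _ _).mpr fun m hm => ?_))
        (Nat.sub_lt (by positivity) one_pos)
      have hm' : 2 ^ n - 1 < m := by exact_mod_cast hm
      have hne : ∀ i : Fin n, m ≠ 2 ^ (i : ℕ) := fun i e => by
        have : 2 ^ (i : ℕ) * 2 ≤ 2 ^ n := by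
          rw [← pow_succ]; exact Nat.pow_le_pow_right (by norm_num) i.2
        have : 1 ≤ 2 ^ (i : ℕ) := Nat.one_le_pow _ _ (by norm_num)
        omega
      simp only [hp, coeff_sub, finsetSum_coeff, coeff_C_mul, coeff_X_pow, coeff_X_add_one_pow, coeff_one]
      rw [if_neg (by omega : ¬ m = o), if_neg (by omega : ¬ m = 0), Nat.choose_eq_zero_of_lt (by omega),
        Finset.sum_eq_zero (fun i _ => by rw [if_neg (hne i), mul_zero]), Nat.cast_zero]
      ring
  have hc := congrArg (fun p : F[X] => p.coeff (o - 1)) hp0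
  simp only [hp, coeff_sub, finsetSum_coeff, coeff_C_mul, coeff_X_pow, coeff_X_add_one_pow, coeff_one,
    coeff_zero] at hc
  have ho3 : 3 ≤ o := by obtain ⟨r, rfl⟩ := hoodd; omega
  rw [if_neg (by omega : ¬ o - 1 = o), if_neg (by omega : ¬ o - 1 = 0),
    Nat.choose_symm (by omega : 1 ≤ o), Nat.choose_one_right] at hc
  obtain ⟨r, hr⟩ := hoodd
  have ho' : (o : F) = 1 := by
    rw [hr]; push_cast; rw [CharTwo.two_eq_zero]; ring
  rw [ho'] at hc
  obtain ⟨i, hi⟩ : ∃ i : Fin n, o - 1 = 2 ^ (i : ℕ) := by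
    by_contra hno
    push Not at hno
    rw [Finset.sum_eq_zero (fun i _ => by rw [if_neg (hno i), mul_zero])] at hc
    simp at hc
  refine Or.inr ⟨v, i, Nat.one_le_iff_ne_zero.mpr fun h0 => ?_, ?_⟩
  · rw [h0, pow_zero] at hi; omega
  · congr 1; omega

/-- If `x ^ (2 ^ u + 1)` is injective then `n / gcd u n` is odd. -/
theorem odd_quot {u : ℕ} (hu : 1 ≤ u) (hinj : ∀ t : F, t ^ (2 ^ u + 1) = 1 → t = 1) :
    Odd (n / Nat.gcd u n) := by
  set g := Nat.gcd u n with hg
  have hg0 : 0 < g := Nat.gcd_pos_of_pos_left _ hu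
  obtain ⟨a, ha⟩ : g ∣ u := Nat.gcd_dvd_left _ _
  obtain ⟨b, hb⟩ : g ∣ n := Nat.gcd_dvd_right _ _
  rw [hb, Nat.mul_div_cancel_left _ hg0, ← Nat.not_even_iff_odd]
  rintro ⟨b', hb'⟩
  have haodd : Odd a := by
    rw [← Nat.not_even_iff_odd]
    rintro ⟨a', ha'⟩
    have : g * 2 ∣ g := by
      conv_rhs => rw [hg]
      exact Nat.dvd_gcd ⟨a', by rw [ha, ha']; ring⟩ ⟨b', by rw [hb, hb']; ring⟩
    have := Nat.le_of_dvd hg0 this
    omega
  have hd1 : 2 ^ g + 1 ∣ 2 ^ u + 1 := by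
    have := haodd.nat_add_dvd_pow_add_pow (2 ^ g) 1
    rwa [one_pow, ← pow_mul, ← ha] at this
  have hd2 : 2 ^ g + 1 ∣ 2 ^ n - 1 := by
    have h1 : 2 ^ g + 1 ∣ (2 ^ g) ^ 2 - 1 ^ 2 := Dvd.intro _ (Nat.sq_sub_sq (2 ^ g) 1).symm
    refine h1.trans ?_
    have h2 := Nat.sub_dvd_pow_sub_pow ((2 ^ g) ^ 2) 1 b'
    rw [one_pow] at h2
    rw [one_pow, hb, hb', show g * (b' + b') = g * 2 * b' by ring, pow_mul, pow_mul]
    exact h2
  obtain ⟨c, hc⟩ := hd2
  have hl0 := l_ne_zero hn hn2 hl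
  have h1 : l ^ c = 1 := by
    refine hinj _ ?_
    obtain ⟨e, he⟩ := hd1
    rw [he, ← pow_mul, show c * ((2 ^ g + 1) * e) = (2 ^ g + 1) * c * e by ring, ← hc, pow_mul,
      show l ^ (2 ^ n - 1) = 1 from orderOf_l hn hn2 hl ▸ pow_orderOf_eq_one l, one_pow]
  have h2 := orderOf_dvd_of_pow_eq_one h1
  rw [orderOf_l hn hn2 hl, hc] at h2
  have hc0 : 0 < c := by
    rcases Nat.eq_zero_or_pos c with e | e
    · rw [e, mul_zero] at hc
      have : 4 ≤ 2 ^ n := le_trans (by norm_num) (Nat.pow_le_pow_right (by norm_num) hn2)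
      omega
    · exact e
  have := Nat.le_of_dvd hc0 h2
  have : 2 * c ≤ (2 ^ g + 1) * c := Nat.mul_le_mul_right _ (by have := Nat.one_le_pow g 2 (by norm_num); omega)
  omega

end Field

theorem exists_exponent {F : Type*} [Field F] [Finite F] {n : ℕ} {l m : F}
    (hl : ∀ t : F, t ≠ 0 → ∃ i : ℕ, l ^ i = t) (hn : l ^ (2 ^ n - 1) = 1) (hm : m ≠ 0) (hpos : 0 < 2 ^ n - 1) :
    ∃ k, k < 2 ^ n - 1 ∧ l ^ k = m := by
  obtain ⟨i, hi⟩ := hl m hm
  refine ⟨i % (2 ^ n - 1), Nat.mod_lt _ hpos, ?_⟩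
  rw [← hi]
  conv_rhs => rw [← Nat.mod_add_div i (2 ^ n - 1), pow_add, pow_mul, hn, one_pow, mul_one]

/-- A twisted squaring map with coordinates in which a given automorphism acts by scaling. -/
theorem exists_typeA_scaled {P : Type u} [Group P] [Finite P] {k : MulAut P} (h : Hyp P k)
    (hne : ∃ x y : P, x * y ≠ y * x) (hcard : Nat.card P = Nat.card (Subgroup.center P) ^ 2) :
    ∃ (F : Type) (_ : Field F) (_ : Fintype F) (_ : CharP F 2) (φ : F ≃+* F),
      (Fintype.card F = Nat.card (Subgroup.center P) ∧ φ ≠ RingEquiv.refl F ∧ Odd (orderOf φ)) ∧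
      ∃ (ι : P ≃* triGroup (φ : F →+* F)) (l : F), l ≠ 0 ∧ (∀ t : F, t ≠ 0 → ∃ i : ℕ, l ^ i = t) ∧
        (∀ p x y, ((ι p : triGroup (φ : F →+* F)) : GL (Fin 3) F) = triU (φ : F →+* F) x y →
          ∃ y', ((ι (k p) : triGroup (φ : F →+* F)) : GL (Fin 3) F) = triU (φ : F →+* F) (l * x) y') ∧
        ∀ p y, ((ι p : triGroup (φ : F →+* F)) : GL (Fin 3) F) = triU (φ : F →+* F) 0 y →
          ((ι (k p) : triGroup (φ : F →+* F)) : GL (Fin 3) F) = triU (φ : F →+* F) 0 (l * φ l * y) := by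
  classical
  have hg := good P k h hne
  haveI : Fact (Nat.Prime 2) := ⟨Nat.prime_two⟩
  set Z := Subgroup.center P with hZ
  obtain ⟨n, hn⟩ := IsPGroup.iff_card.mp (h.pgroup.to_subgroup Z)
  have hn2 : 2 ≤ n := by
    obtain ⟨x, y, hxy, hx1, hx, hy1, hy⟩ := h.two
    have h3 : 3 ≤ Nat.card Z := by
      letI := Fintype.ofFinite Z
      rw [Nat.card_eq_fintype_card]
      calc 3 = ({(1 : Z), ⟨x, h.central hx⟩, ⟨y, h.central hy⟩} : Finset Z).card := by
            rw [Finset.card_insert_of_notMem (by simp [Subtype.ext_iff, Ne.symm hx1, Ne.symm hy1]),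
              Finset.card_pair (fun e => hxy (congrArg Subtype.val e))]
        _ ≤ _ := Finset.card_le_univ _
    by_contra hlt
    have : Nat.card Z ≤ 2 := by rw [hn]; exact Nat.pow_le_pow_right (by norm_num) (by omega : n ≤ 1)
    omega
  have hq4 : 4 ≤ Nat.card Z := by rw [hn]; exact le_trans (by norm_num) (Nat.pow_le_pow_right (by norm_num) hn2)
  have hVcard : Nat.card (P ⧸ Z) = Nat.card Z := by
    have := Subgroup.card_eq_card_quotient_mul_card_subgroup Z
    rw [hcard, pow_two] at this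
    exact (Nat.eq_of_mul_eq_mul_right Nat.card_pos this).symm
  letI : CommGroup (P ⧸ Z) :=
    { (inferInstance : Group (P ⧸ Z)) with
      mul_comm := fun a b => by
        obtain ⟨x, rfl⟩ := QuotientGroup.mk_surjective a
        obtain ⟨y, rfl⟩ := QuotientGroup.mk_surjective b
        rw [← QuotientGroup.mk_mul, ← QuotientGroup.mk_mul, QuotientGroup.eq]
        have := hg.commutator_mem y⁻¹ x⁻¹
        rw [commutatorElement_def] at this
        simpa [mul_assoc] using this }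
  letI : CommGroup Z :=
    { (inferInstance : Group Z) with
      mul_comm := fun a b => Subtype.ext (Subgroup.mem_center_iff.mp b.2 a) }
  have hmap : Z.map (k : P →* P) = Z := by
    refine le_antisymm ?_ fun z hz => ?_
    · rintro _ ⟨z, hz, rfl⟩
      exact center_invariant z hz
    · refine ⟨k.symm z, Subgroup.mem_center_iff.mpr fun g => k.injective ?_, k.apply_symm_apply z⟩
      rw [map_mul, map_mul, MulEquiv.apply_symm_apply, Subgroup.mem_center_iff.mp hz (k g)]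
  let kV : (P ⧸ Z) ≃* (P ⧸ Z) := QuotientGroup.congr Z Z k hmap
  let kZ : Z ≃* Z :=
    { toFun := fun z => ⟨k z, center_invariant (k := k) (z : P) z.2⟩
      invFun := fun z => ⟨k.symm z, by
        obtain ⟨w, hw, e⟩ := (hmap.symm ▸ z.2 : (z : P) ∈ Z.map (k : P →* P))
        rw [show k.symm z = w by rw [← e]; exact k.symm_apply_apply w]
        exact hw⟩
      left_inv := fun z => Subtype.ext (k.symm_apply_apply _)
      right_inv := fun z => Subtype.ext (k.apply_symm_apply _)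
      map_mul' := fun a b => Subtype.ext (map_mul k (a : P) (b : P)) }
  have hsqwd : ∀ x y : P, x⁻¹ * y ∈ Z → x * x = y * y := by
    intro x y hz
    have hc := Subgroup.mem_center_iff.mp hz x
    calc x * x = x * x * ((x⁻¹ * y) * (x⁻¹ * y)) := by rw [hg.2 _ hz, mul_one]
      _ = x * (x * (x⁻¹ * y)) * (x⁻¹ * y) := by group
      _ = x * ((x⁻¹ * y) * x) * (x⁻¹ * y) := by rw [hc]
      _ = _ := by group
  let sqV : (P ⧸ Z) → Z := Quotient.lift (fun x => ⟨x * x, hg.1 x⟩) fun x y e =>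
    Subtype.ext (hsqwd x y (QuotientGroup.leftRel_apply.mp e))
  have hsqk : ∀ v, sqV (kV v) = kZ (sqV v) := by
    intro v
    obtain ⟨x, rfl⟩ := QuotientGroup.mk_surjective v
    exact Subtype.ext (map_mul k x x).symm
  have hsq0 : ∀ v, sqV v = 1 → v = 1 := by
    intro v hv
    obtain ⟨x, rfl⟩ := QuotientGroup.mk_surjective v
    exact (QuotientGroup.eq_one_iff x).mpr (h.central (congrArg Subtype.val hv))
  have hsqi : ∀ (i : ℕ) v, sqV ((fun x => kV x)^[i] v) = (fun z => kZ z)^[i] (sqV v) := by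
    intro i
    induction i with
    | zero => intro v; rfl
    | succ i ih => intro v; rw [Function.iterate_succ_apply', Function.iterate_succ_apply', hsqk, ih]
  have hkpow : ∀ (i : ℕ) (z : Z), (((fun z => kZ z)^[i] z : Z) : P) = (k ^ i) (z : P) := by
    intro i
    induction i with
    | zero => intro z; rfl
    | succ i ih =>
      intro z
      rw [Function.iterate_succ_apply', pow_succ', MulAut.mul_apply, ← ih]
      rfl
  have hZtr : ∀ z z' : Z, z ≠ 1 → z' ≠ 1 → ∃ i : ℕ, (fun z => kZ z)^[i] z = z' := by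
    intro z z' hz hz'
    obtain ⟨i, hi⟩ := h.trans z z' (fun e => hz (Subtype.ext e)) (hg.2 _ z.2) (fun e => hz' (Subtype.ext e)) (hg.2 _ z'.2)
    exact ⟨i, Subtype.ext ((hkpow i z).trans hi)⟩
  have hVtr : ∀ v w : P ⧸ Z, v ≠ 1 → w ≠ 1 → ∃ i : ℕ, (fun x => kV x)^[i] v = w := by
    intro v w hv hw
    have hv' : sqV v ≠ 1 := fun e => hv (hsq0 v e)
    choose I hI using fun z : {z : Z // z ≠ 1} => hZtr (sqV v) z hv' z.2
    let f : {z : Z // z ≠ 1} → {x : P ⧸ Z // x ≠ 1} := fun z => ⟨(fun x => kV x)^[I z] v, fun e => z.2 (by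
      rw [← hI z, ← hsqi, e]
      exact Subtype.ext (mul_one 1))⟩
    have hf : Function.Injective f := fun z z' e => Subtype.ext (by
      rw [← hI z, ← hI z', ← hsqi, ← hsqi]
      exact congrArg sqV (congrArg Subtype.val e))
    have hc : Nat.card {x : P ⧸ Z // x ≠ 1} ≤ Nat.card {z : Z // z ≠ 1} := by
      letI := Fintype.ofFinite (P ⧸ Z)
      letI := Fintype.ofFinite Z
      have h1 := hVcard
      rw [Nat.card_eq_fintype_card, Nat.card_eq_fintype_card] at h1
      rw [Nat.card_eq_fintype_card, Nat.card_eq_fintype_card, Fintype.card_subtype_compl, Fintype.card_subtype_eq,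
        Fintype.card_subtype_compl, Fintype.card_subtype_eq, h1]
    obtain ⟨z, hz⟩ := (hf.bijective_of_nat_card_le hc).2 ⟨w, hw⟩
    exact ⟨I z, congrArg Subtype.val hz⟩
  haveI : Nontrivial (Additive (P ⧸ Z)) := Finite.one_lt_card_iff_nontrivial.mp (by
    show 1 < Nat.card (P ⧸ Z); omega)
  haveI : Nontrivial (Additive Z) := Finite.one_lt_card_iff_nontrivial.mp (by
    show 1 < Nat.card Z; omega)
  have hiterV : ∀ (i : ℕ) (x : P ⧸ Z),
      (fun a => MulEquiv.toAdditive kV a)^[i] (Additive.ofMul x) = Additive.ofMul ((fun x => kV x)^[i] x) := by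
    intro i
    induction i with
    | zero => intro x; rfl
    | succ i ih => intro x; rw [Function.iterate_succ_apply', Function.iterate_succ_apply', ih]; rfl
  have hiterZ : ∀ (i : ℕ) (x : Z),
      (fun a => MulEquiv.toAdditive kZ a)^[i] (Additive.ofMul x) = Additive.ofMul ((fun x => kZ x)^[i] x) := by
    intro i
    induction i with
    | zero => intro x; rfl
    | succ i ih => intro x; rw [Function.iterate_succ_apply', Function.iterate_succ_apply', ih]; rfl
  obtain ⟨F₁, _, _, e₁, l₁, he₁, hl₁⟩ := exists_field (MulEquiv.toAdditive kV) fun a b ha hb => by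
    obtain ⟨i, hi⟩ := hVtr a.toMul b.toMul (fun e => ha (congrArg Additive.ofMul e)) (fun e => hb (congrArg Additive.ofMul e))
    exact ⟨i, (hiterV i a.toMul).trans (congrArg Additive.ofMul hi)⟩
  obtain ⟨F₂, _, _, e₂, l₂, he₂, hl₂⟩ := exists_field (MulEquiv.toAdditive kZ) fun a b ha hb => by
    obtain ⟨i, hi⟩ := hZtr a.toMul b.toMul (fun e => ha (congrArg Additive.ofMul e)) (fun e => hb (congrArg Additive.ofMul e))
    exact ⟨i, (hiterZ i a.toMul).trans (congrArg Additive.ofMul hi)⟩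
  let F := GaloisField 2 n
  letI : Fintype F := Fintype.ofFinite F
  have hF : Nat.card F = 2 ^ n := GaloisField.card 2 n (by omega)
  have hF₁ : Nat.card F₁ = 2 ^ n := by
    rw [← Nat.card_congr e₁.toEquiv]; exact hVcard.trans hn
  have hF₂ : Nat.card F₂ = 2 ^ n := by rw [← Nat.card_congr e₂.toEquiv]; exact hn
  haveI := Fintype.ofFinite F₁
  haveI := Fintype.ofFinite F₂
  let σ₁ : F₁ ≃+* F := FiniteField.ringEquivOfCardEq
    (by rw [← Nat.card_eq_fintype_card, ← Nat.card_eq_fintype_card, hF₁, hF])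
  let σ₂ : F₂ ≃+* F := FiniteField.ringEquivOfCardEq
    (by rw [← Nat.card_eq_fintype_card, ← Nat.card_eq_fintype_card, hF₂, hF])
  let π : P → F := fun p => σ₁ (e₁ (Additive.ofMul (p : P ⧸ Z)))
  let ζ₀ : Z → F := fun z => σ₂ (e₂ (Additive.ofMul z))
  set l := σ₁ l₁ with hldef
  set m := σ₂ l₂ with hmdef
  have hl : ∀ t : F, t ≠ 0 → ∃ i : ℕ, l ^ i = t := fun t ht => by
    obtain ⟨i, hi⟩ := hl₁ (σ₁.symm t) (fun e => ht (by rw [← σ₁.apply_symm_apply t, e, map_zero]))
    exact ⟨i, by rw [hldef, ← map_pow, hi, σ₁.apply_symm_apply]⟩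
  have hm : ∀ t : F, t ≠ 0 → ∃ i : ℕ, m ^ i = t := fun t ht => by
    obtain ⟨i, hi⟩ := hl₂ (σ₂.symm t) (fun e => ht (by rw [← σ₂.apply_symm_apply t, e, map_zero]))
    exact ⟨i, by rw [hmdef, ← map_pow, hi, σ₂.apply_symm_apply]⟩
  have hπmul : ∀ a b, π (a * b) = π a + π b := fun a b => by
    simp only [π, QuotientGroup.mk_mul, ofMul_mul, map_add]
  have hπs : Function.Surjective π := fun t => by
    obtain ⟨x, hx⟩ := QuotientGroup.mk_surjective (Additive.toMul (e₁.symm (σ₁.symm t)))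
    exact ⟨x, by simp [π, hx]⟩
  have hπker : ∀ p, π p = 0 ↔ p ∈ Z := fun p => by
    simp [π]
  have hπk : ∀ p, π (k p) = l * π p := fun p => by
    simp only [π, hldef, ← map_mul, ← he₁]
    rfl
  have hζk : ∀ z : Z, ζ₀ (kZ z) = m * ζ₀ z := fun z => by
    simp only [ζ₀, hmdef, ← map_mul, ← he₂]
    rfl
  have hζadd : ∀ a b, ζ₀ (a * b) = ζ₀ a + ζ₀ b := fun a b => by simp only [ζ₀, ofMul_mul, map_add]
  have hζinj : Function.Injective ζ₀ := fun a b e => Additive.ofMul.injective (e₂.injective (σ₂.injective e))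
  have hζsur : Function.Surjective ζ₀ := fun t => ⟨Additive.toMul (e₂.symm (σ₂.symm t)), by simp [ζ₀]⟩
  have hπeq : ∀ p p', π p = π p' → p * p = p' * p' := fun p p' e => hsqwd p p' (by
    rw [← hπker, hπmul, show π p⁻¹ = π p from ?_, e, CharTwo.add_self_eq_zero]
    have := hπmul p⁻¹ p
    rw [inv_mul_cancel, (hπker 1).mpr (one_mem _)] at this
    exact CharTwo.add_eq_zero.mp this.symm)
  choose r hr using hπs
  let S : F → F := fun t => ζ₀ ⟨r t * r t, hg.1 _⟩
  have hS : ∀ p, ζ₀ ⟨p * p, hg.1 p⟩ = S (π p) := fun p =>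
    congrArg ζ₀ (Subtype.ext (hπeq p (r (π p)) (hr _).symm))
  have hSl : ∀ t, S (l * t) = m * S t := fun t => by
    rw [show S t = ζ₀ ⟨r t * r t, hg.1 _⟩ from rfl, ← hζk]
    conv_lhs => rw [← hr t, ← hπk, ← hS]
    exact congrArg ζ₀ (Subtype.ext (map_mul k (r t) (r t)).symm)
  have hz1 : ζ₀ 1 = 0 := by simp [ζ₀]
  have hS0 : ∀ t, S t = 0 ↔ t = 0 := fun t => by
    refine ⟨fun h0 => ?_, fun h0 => ?_⟩
    · have h1 : r t * r t = 1 := congrArg Subtype.val (hζinj (h0.trans hz1.symm))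
      rw [← hr t, hπker]
      exact h.central h1
    · rw [← hz1]
      refine congrArg ζ₀ (Subtype.ext ?_)
      show r t * r t = 1
      exact hg.2 _ ((hπker _).mp (by rw [hr, h0]))
  have hl0 := l_ne_zero hF hn2 hl
  have hm0 := l_ne_zero hF hn2 hm
  have hlq : l ^ (2 ^ n - 1) = 1 := orderOf_l hF hn2 hl ▸ pow_orderOf_eq_one l
  obtain ⟨e, heq, hem⟩ := exists_exponent hl hlq hm0 (by rw [← hn]; omega)
  set c := S 1 with hc
  have hc0 : c ≠ 0 := fun e0 => one_ne_zero ((hS0 1).mp e0)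
  have hiter : ∀ i : ℕ, S (l ^ i) = c * (l ^ i) ^ e := by
    intro i
    induction i with
    | zero => simp [hc]
    | succ i ih => rw [pow_succ', hSl, ih, ← hem, mul_pow]; ring
  have he0 : 1 ≤ e := by
    by_contra hlt
    have hm1 : m = 1 := by rw [← hem, show e = 0 by omega, pow_zero]
    have := orderOf_l hF hn2 hm
    rw [hm1, orderOf_one] at this
    have : 2 ^ n = Nat.card Z := hn.symm
    omega
  have hpow : ∀ t, S t = c * t ^ e := fun t => by
    by_cases ht : t = 0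
    · rw [ht, (hS0 0).mpr rfl, zero_pow (by omega), mul_zero]
    · obtain ⟨i, rfl⟩ := hl t ht
      exact hiter i
  -- additivity
  have hbi : ∀ x y : P, ∀ hxy : ⁅y, x⁆ ∈ Z, S (π x + π y) = S (π x) + S (π y) + ζ₀ ⟨⁅y, x⁆, hxy⟩ := by
    intro x y hxy
    rw [← hπmul, ← hS, ← hS, ← hS, ← hζadd, ← hζadd]
    exact congrArg ζ₀ (Subtype.ext (mul_mul_self_eq hg x y))
  have hadd : ∀ s t : F, (s + t + 1) ^ e + (s + t) ^ e + 1 =
      ((s + 1) ^ e + s ^ e + 1) + ((t + 1) ^ e + t ^ e + 1) := by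
    intro s t
    obtain ⟨x, hx⟩ : ∃ x, π x = 1 := ⟨r 1, hr 1⟩
    have key : ∀ w, ∀ hw : ⁅x, w⁆ ∈ Z, c * ((π w + 1) ^ e + π w ^ e + 1) = ζ₀ ⟨⁅x, w⁆, hw⟩ := by
      intro w hw
      have := hbi w x hw
      rw [hx, hpow, hpow, hpow, one_pow] at this
      have h2 : ζ₀ ⟨⁅x, w⁆, hw⟩ = c * (π w + 1) ^ e + (c * π w ^ e + c * 1) := by
        rw [this]
        have h3 := CharTwo.add_self_eq_zero (c * π w ^ e + c * 1)
        linear_combination -h3
      rw [h2]; ring
    have k1 := key (r s) (hg.commutator_mem _ _)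
    have k2 := key (r t) (hg.commutator_mem _ _)
    have k3 := key (r s * r t) (hg.commutator_mem _ _)
    rw [hπmul, hr, hr] at k3
    rw [hr] at k1 k2
    refine mul_left_cancel₀ hc0 (k3.trans (Eq.trans ?_ (mul_add c _ _).symm))
    rw [k1, k2, ← hζadd]
    refine congrArg ζ₀ (Subtype.ext ?_)
    show ⁅x, r s * r t⁆ = ⁅x, r s⁆ * ⁅x, r t⁆
    rw [commutator_right, conj_center (hg.commutator_mem _ _)]
  rcases weight_two hF hn2 hl he0 heq hadd with ⟨v, hv⟩ | ⟨v, u, hu, hv⟩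
  · exfalso
    obtain ⟨a, b, hab⟩ := hne
    refine hab (commutatorElement_eq_one_iff_mul_comm.mp ?_)
    have := hbi b a (hg.commutator_mem a b)
    rw [hpow, hpow, hpow, hv, add_pow_char_pow, mul_add, left_eq_add, ← hz1] at this
    exact congrArg Subtype.val (hζinj this)
  set φ : F ≃+* F := iterateFrobeniusEquiv F 2 u with hφ
  have hφv : ∀ t : F, φ t = t ^ 2 ^ u := fun t => iterateFrobeniusEquiv_def F 2 u t
  let τ : F ≃+* F := iterateFrobeniusEquiv F 2 v
  let ζ : Z → F := fun z => τ.symm (c⁻¹ * ζ₀ z)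
  have hsq : ∀ p : P, ζ ⟨p * p, hg.1 p⟩ = φ (π p) * π p := fun p => by
    show τ.symm (c⁻¹ * ζ₀ ⟨p * p, hg.1 p⟩) = _
    rw [hS, hpow, inv_mul_cancel_left₀ hc0, RingEquiv.symm_apply_eq, iterateFrobeniusEquiv_def, hφv, hv,
      mul_comm (2 ^ v), pow_mul, pow_succ]
  have hinj : ∀ t : F, t ^ (2 ^ u + 1) = 1 → t = 1 := by
    intro t ht
    have h1 : S t = S 1 := by
      rw [hpow, hpow, hv, one_pow, mul_comm (2 ^ v), pow_mul, ht, one_pow]
    have h2 : r t * r t = r 1 * r 1 := congrArg Subtype.val (hζinj h1)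
    have hne1 : (r (1 : F) : P ⧸ Z) ≠ 1 := fun e' => by
      have := (hπker _).mpr ((QuotientGroup.eq_one_iff _).mp e')
      rw [hr] at this
      exact one_ne_zero this
    have hnet : (r t : P ⧸ Z) ≠ 1 := fun e' => by
      have := (hπker _).mpr ((QuotientGroup.eq_one_iff _).mp e')
      rw [hr] at this
      rw [this, zero_pow (Nat.succ_ne_zero _)] at ht
      exact zero_ne_one ht
    obtain ⟨i, hi⟩ := hVtr _ _ hne1 hnet
    -- squaring is injective
    have hiterπ : ∀ j : ℕ, (((k ^ j) (r 1) : P) : P ⧸ Z) = (fun x => kV x)^[j] (r (1 : F) : P ⧸ Z) := by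
      intro j
      induction j with
      | zero => rfl
      | succ j ih => rw [Function.iterate_succ_apply', ← ih, pow_succ', MulAut.mul_apply]; rfl
    have hπj : ∀ j : ℕ, π ((k ^ j) (r 1)) = l ^ j := by
      intro j
      induction j with
      | zero => rw [pow_zero, pow_zero, MulAut.one_apply, hr]
      | succ j ih => rw [pow_succ', MulAut.mul_apply, hπk, ih, pow_succ']
    have hti : t = l ^ i := by
      rw [← hπj i, ← hr t]
      show σ₁ (e₁ (Additive.ofMul (r t : P ⧸ Z))) = σ₁ (e₁ (Additive.ofMul (((k ^ i) (r 1) : P) : P ⧸ Z)))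
      rw [hiterπ, hi]
    rw [hti] at h1 ⊢
    have h3 : ∀ j : ℕ, S (l ^ j) = m ^ j * c := by
      intro j
      induction j with
      | zero => simp [hc]
      | succ j ih => rw [pow_succ', hSl, ih, pow_succ']; ring
    rw [h3, ← hc, mul_eq_right₀ hc0] at h1
    have := orderOf_dvd_of_pow_eq_one h1
    rw [orderOf_l hF hn2 hm] at this
    obtain ⟨d, rfl⟩ := this
    rw [pow_mul, hlq, one_pow]
  obtain ⟨ι, hι₁, hι₂⟩ := exists_iso_compat (φ : F →+* F) π hπmul (fun t => ⟨r t, hr t⟩) hπker ζ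
    (fun a b => by show τ.symm _ = τ.symm _ + τ.symm _; rw [← map_add, hζadd, mul_add])
    (fun a b e' => hζinj (mul_left_cancel₀ (inv_ne_zero hc0) (τ.symm.injective e')))
    (fun t => by
      obtain ⟨z, hz⟩ := hζsur (c * τ t)
      exact ⟨z, by show τ.symm _ = t; rw [hz, inv_mul_cancel_left₀ hc0, RingEquiv.symm_apply_apply]⟩)
    hg.1 hsq
  have hun : u < n := by
    by_contra hge
    have h1 : 2 ^ n ≤ 2 ^ u := Nat.pow_le_pow_right (by norm_num) (not_lt.mp hge)
    have h2 : 2 ^ u + 1 ≤ e := hv ▸ Nat.le_mul_of_pos_left _ (by positivity)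
    omega
  refine ⟨F, inferInstance, inferInstance, inferInstance, φ, ⟨?_, fun e' => ?_, ?_⟩, ι, l, hl0, hl, ?_, ?_⟩
  · rw [← Nat.card_eq_fintype_card, hF, ← hn]
  · have := pow_two_inj hF hn2 hl (i := ⟨u, hun⟩) (j := ⟨0, by omega⟩) fun t => by
      rw [← hφv, e']; simp
    simp at this
    omega
  · refine (odd_quot hF hn2 hl hu hinj).of_dvd_nat (orderOf_dvd_of_pow_eq_one (RingEquiv.ext fun t => ?_))
    have hφj : ∀ j : ℕ, (φ ^ j) t = t ^ 2 ^ (u * j) := by
      intro j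
      induction j with
      | zero => simp
      | succ j ih =>
        rw [pow_succ', show (φ * φ ^ j) t = φ ((φ ^ j) t) from rfl, ih, hφv, ← pow_mul, ← pow_add,
          Nat.mul_succ]
    rw [hφj]
    obtain ⟨a, ha⟩ := Nat.gcd_dvd_left u n
    have e2 : u * (n / Nat.gcd u n) = n * a := by
      nth_rewrite 1 [ha]
      rw [mul_right_comm, Nat.mul_div_cancel' (Nat.gcd_dvd_right u n)]
    rw [e2, pow_mul, show (2 : ℕ) ^ n = Fintype.card F by rw [← hF, Nat.card_eq_fintype_card],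
      FiniteField.pow_card_pow]
    rfl
  · intro p x y hp
    obtain ⟨y₀, hy₀⟩ := hι₁ p
    obtain ⟨y₁, hy₁⟩ := hι₁ (k p)
    refine ⟨y₁, ?_⟩
    rw [hy₁, hπk, (triU_inj _ (hy₀.symm.trans hp)).1]
  · intro p y hp
    obtain ⟨y₀, hy₀⟩ := hι₁ p
    have hx : π p = 0 := (triU_inj _ (hy₀.symm.trans hp)).1
    have hpz : p ∈ Z := (hπker p).mp hx
    have h₁ := hι₂ ⟨p, hpz⟩
    have hy : ζ ⟨p, hpz⟩ = y := (triU_inj _ (h₁.symm.trans hp)).2
    have h₂ := hι₂ (kZ ⟨p, hpz⟩)
    rw [show ((kZ ⟨p, hpz⟩ : Z) : P) = k p from rfl] at h₂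
    rw [h₂, ← hy]
    refine congrArg _ ?_
    show τ.symm (c⁻¹ * ζ₀ (kZ ⟨p, hpz⟩)) = l * φ l * τ.symm (c⁻¹ * ζ₀ ⟨p, hpz⟩)
    rw [RingEquiv.symm_apply_eq, map_mul, RingEquiv.apply_symm_apply, hζk, iterateFrobeniusEquiv_def, hφv, ← hem, hv,
      show l * l ^ 2 ^ u = l ^ (2 ^ u + 1) by rw [pow_succ']]
    rw [← pow_mul, mul_comm (2 ^ u + 1)]
    ring

/-- Suzuki 2-groups of the smaller order are of type A. -/
theorem exists_typeA {P : Type u} [Group P] (hP : Cfsg.IsSuzukiTwoGroup P)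
    (hcard : Nat.card P = Nat.card (Subgroup.center P) ^ 2) :
    ∃ (F : Type) (_ : Field F) (_ : Fintype F) (φ : F ≃+* F), Fintype.card F = Nat.card (Subgroup.center P) ∧
      φ ≠ RingEquiv.refl F ∧ Odd (orderOf φ) ∧ Nonempty (P ≃* Cfsg.suzukiTypeA F (φ : F →+* F)) := by
  obtain ⟨hfin, k, h, -, hne⟩ := exists_hyp hP
  haveI := hfin
  obtain ⟨F, iF, iFt, iC, φ, ⟨h1, h2, h3⟩, ι, -⟩ := exists_typeA_scaled h hne hcard
  refine ⟨F, iF, iFt, φ, h1, h2, h3, ?_⟩
  rw [suzukiTypeA_eq]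
  exact ⟨ι⟩

end CfsgLib.SuzukiTwo
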