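import Cfsg.Agent.Lib.SuzukiTwo.Field

/-!
2-groups with an automorphism transitive on involutions.
-/

set_option autoImplicit false
set_option linter.unusedSectionVars false

namespace CfsgLib.SuzukiTwo

universe u

/-- A 2-group with more than one involution and an automorphism permuting them transitively. -/
structure Hyp (P : Type u) [Group P] (k : MulAut P) : Prop where
  pgroup : IsPGroup 2 P
  trans : ∀ x y : P, x ≠ 1 → x * x = 1 → y ≠ 1 → y * y = 1 → ∃ i : ℕ, (k ^ i) x = y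
  two : ∃ x y : P, x ≠ y ∧ x ≠ 1 ∧ x * x = 1 ∧ y ≠ 1 ∧ y * y = 1

variable {P : Type u} [Group P] [Finite P] {k : MulAut P}

theorem Hyp.nontrivial (h : Hyp P k) : Nontrivial P := by
  obtain ⟨x, y, hne, -⟩ := h.two
  exact ⟨x, y, hne⟩

theorem Hyp.exists_center_involution (h : Hyp P k) : ∃ z ∈ Subgroup.center P, z ≠ 1 ∧ z * z = 1 := by
  haveI := h.nontrivial
  haveI : Fact (Nat.Prime 2) := ⟨Nat.prime_two⟩
  haveI := h.pgroup.center_nontrivial
  obtain ⟨n, hn, hcard⟩ := (h.pgroup.to_subgroup (Subgroup.center P)).nontrivial_iff_card.mp inferInstance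
  obtain ⟨z, hz⟩ := exists_prime_orderOf_dvd_card' (G := Subgroup.center P) 2 (hcard ▸ dvd_pow_self 2 (by omega))
  refine ⟨z, z.2, fun h1 => ?_, ?_⟩
  · rw [← Subgroup.orderOf_coe, h1, orderOf_one] at hz
    norm_num at hz
  · rw [← pow_two, ← hz, ← Subgroup.orderOf_coe, pow_orderOf_eq_one]

theorem map_pow_mem {A : Set P} (hA : ∀ a ∈ A, k a ∈ A) (i : ℕ) : ∀ a ∈ A, (k ^ i) a ∈ A := by
  induction i with
  | zero => intro a ha; simpa using ha
  | succ i ih => intro a ha; rw [pow_succ, MulAut.mul_apply]; exact ih _ (hA a ha)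

theorem center_invariant : ∀ a ∈ Subgroup.center P, k a ∈ Subgroup.center P := fun a ha => by
  rw [Subgroup.mem_center_iff] at ha ⊢
  intro g
  obtain ⟨g, rfl⟩ := k.surjective g
  rw [← map_mul, ha g, map_mul]

/-- Involutions are central. -/
theorem Hyp.central (h : Hyp P k) {x : P} (hx : x * x = 1) : x ∈ Subgroup.center P := by
  by_cases hx1 : x = 1
  · rw [hx1]; exact one_mem _
  obtain ⟨z, hzC, hz1, hz2⟩ := h.exists_center_involution
  obtain ⟨i, rfl⟩ := h.trans z x hz1 hz2 hx1 hx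
  exact map_pow_mem (A := (Subgroup.center P : Set P)) center_invariant i z hzC

theorem Hyp.comm (h : Hyp P k) {x : P} (hx : x * x = 1) (g : P) : g * x = x * g :=
  Subgroup.mem_center_iff.mp (h.central hx) g

theorem mem_center_comm {z : P} (hz : z ∈ Subgroup.center P) (g : P) : Commute g z :=
  Subgroup.mem_center_iff.mp hz g

/-- An invariant set containing an involution contains every involution. -/
theorem Hyp.full (h : Hyp P k) {A : Set P} (hA : ∀ a ∈ A, k a ∈ A) {x : P} (hxA : x ∈ A) (hx1 : x ≠ 1)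
    (hx : x * x = 1) {y : P} (hy1 : y ≠ 1) (hy : y * y = 1) : y ∈ A := by
  obtain ⟨i, rfl⟩ := h.trans x y hx1 hx hy1 hy
  exact map_pow_mem hA i x hxA

/-- The top power map of an abelian invariant subgroup covers the involutions. -/
theorem Hyp.power_surjective (h : Hyp P k) {A : Subgroup P} (hA : ∀ a ∈ A, k a ∈ A) {e : ℕ}
    (hexp : ∀ a ∈ A, (a ^ 2 ^ e) * (a ^ 2 ^ e) = 1) (hne : ∃ a ∈ A, a ^ 2 ^ e ≠ 1) {u : P} (hu : u * u = 1) :
    ∃ a ∈ A, a ^ 2 ^ e = u := by
  by_cases hu1 : u = 1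
  · exact ⟨1, A.one_mem, by rw [one_pow, hu1]⟩
  obtain ⟨a, ha, ha1⟩ := hne
  refine h.full (A := {v | ∃ a ∈ A, a ^ 2 ^ e = v}) ?_ ⟨a, ha, rfl⟩ ha1 (hexp a ha) hu1 hu
  rintro _ ⟨b, hb, rfl⟩
  exact ⟨k b, hA b hb, (map_pow k b _).symm⟩

/-- In an abelian invariant subgroup of exponent `2 ^ (e + 1)`, elements killed by the top power map are squares. -/
theorem Hyp.exists_sqrt (h : Hyp P k) {A : Subgroup P} (hA : ∀ a ∈ A, k a ∈ A)
    (hcomm : ∀ a ∈ A, ∀ b ∈ A, Commute a b) {e : ℕ}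
    (hexp : ∀ a ∈ A, (a ^ 2 ^ e) * (a ^ 2 ^ e) = 1) (hne : ∃ a ∈ A, a ^ 2 ^ e ≠ 1) :
    ∀ a ∈ A, a ^ 2 ^ e = 1 → ∃ w ∈ A, w * w = a := by
  suffices key : ∀ j ≤ e, ∀ a ∈ A, a ^ 2 ^ j = 1 → ∃ w ∈ A, w * w = a from key e le_rfl
  intro j
  induction j with
  | zero =>
    intro _ a _ h1
    rw [pow_zero, pow_one] at h1
    exact ⟨1, A.one_mem, by rw [h1, one_mul]⟩
  | succ j ih =>
    intro hj a ha h1
    have h2 : (a ^ 2 ^ j) * (a ^ 2 ^ j) = 1 := by rw [← pow_add, ← two_mul, ← pow_succ']; exact h1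
    obtain ⟨b, hb, hbe⟩ := h.power_surjective hA hexp hne h2
    set m := 2 ^ (e - j - 1) with hm
    have hm2 : m * 2 * 2 ^ j = 2 ^ e := by
      rw [hm, ← pow_succ, ← pow_add]
      congr 1
      omega
    have hb' : (b ^ (m * 2))⁻¹ ∈ A := A.inv_mem (A.pow_mem hb _)
    obtain ⟨w, hw, hwe⟩ := ih (by omega) (a * (b ^ (m * 2))⁻¹) (A.mul_mem ha hb') (by
      rw [(hcomm a ha _ hb').mul_pow, inv_pow, ← pow_mul, hm2, hbe, mul_inv_cancel])
    refine ⟨w * b ^ m, A.mul_mem hw (A.pow_mem hb _), ?_⟩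
    have hc := hcomm w hw _ (A.pow_mem hb m)
    calc w * b ^ m * (w * b ^ m) = w * (b ^ m * w) * b ^ m := by group
      _ = w * (w * b ^ m) * b ^ m := by rw [← hc.eq]
      _ = (w * w) * (b ^ m * b ^ m) := by group
      _ = a := by rw [hwe, ← pow_add, ← mul_two, inv_mul_cancel_right]

/-- An equivariant alternating product modulo the kernel of a map onto the involutions is trivial. -/
theorem Hyp.alternating_trivial (h : Hyp P k) {A : Subgroup P} (hA : ∀ a ∈ A, k a ∈ A) (π : P → P) (β : P → P → P)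
    (hπΩ : ∀ a ∈ A, π a * π a = 1) (hπmul : ∀ a ∈ A, ∀ b ∈ A, π (a * b) = π a * π b)
    (hπk : ∀ a ∈ A, π (k a) = k (π a)) (hπne : ∃ a ∈ A, π a ≠ 1)
    (hβΩ : ∀ a ∈ A, ∀ b ∈ A, β a b * β a b = 1)
    (hβr : ∀ a ∈ A, ∀ b ∈ A, ∀ b' ∈ A, β a (b * b') = β a b * β a b')
    (hβl : ∀ a ∈ A, ∀ a' ∈ A, ∀ b ∈ A, β (a * a') b = β a b * β a' b)
    (hβa : ∀ a ∈ A, β a a = 1) (hβk : ∀ a ∈ A, ∀ b ∈ A, β (k a) (k b) = k (β a b))
    (hβker : ∀ a ∈ A, π a = 1 → ∀ b ∈ A, β a b = 1) : ∀ a ∈ A, ∀ b ∈ A, β a b = 1 := by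
  let Om : Subgroup P :=
    { carrier := {x | x * x = 1}
      one_mem' := one_mul 1
      mul_mem' := fun {x y} hx hy => by
        show x * y * (x * y) = 1
        rw [show x * y * (x * y) = x * (y * x) * y by group, h.comm hx y,
          show x * (x * y) * y = (x * x) * (y * y) by group, hx, hy, one_mul]
      inv_mem' := fun {x} hx => by
        show x⁻¹ * x⁻¹ = 1
        rw [← mul_inv_rev, hx, inv_one] }
  letI : CommGroup Om := { (inferInstance : Group Om) with mul_comm := fun x y => Subtype.ext (h.comm y.2 x) }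
  let V := Additive Om
  haveI : Nontrivial V := by
    obtain ⟨x, y, hne, -, hx, -, hy⟩ := h.two
    exact ⟨Additive.ofMul ⟨x, hx⟩, Additive.ofMul ⟨y, hy⟩, fun he =>
      hne (congrArg (fun v : V => ((Additive.toMul v : Om) : P)) he)⟩
  haveI : Finite V := inferInstanceAs (Finite Om)
  have hkΩ : ∀ x : P, x * x = 1 → k x * k x = 1 := fun x hx => by rw [← map_mul, hx, map_one]
  let T₀ : Om ≃* Om :=
    { toFun := fun x => ⟨k x, hkΩ x x.2⟩
      invFun := fun x => ⟨k.symm x, by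
        show k.symm x * k.symm x = 1
        rw [← map_mul, show (x : P) * x = 1 from x.2, map_one]⟩
      left_inv := fun x => Subtype.ext (k.symm_apply_apply x)
      right_inv := fun x => Subtype.ext (k.apply_symm_apply x)
      map_mul' := fun x y => Subtype.ext (map_mul k (x : P) y) }
  let T : V ≃+ V := T₀.toAdditive
  have hT : ∀ (i : ℕ) (v : V), ((Additive.toMul ((fun x => T x)^[i] v) : Om) : P) = (k ^ i) ((Additive.toMul v : Om) : P) := by
    intro i
    induction i with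
    | zero => intro v; rfl
    | succ i ih =>
      intro v
      rw [Function.iterate_succ_apply', pow_succ', MulAut.mul_apply, ← ih]
      rfl
  obtain ⟨F, _, _, e, l, hel, hgen⟩ := exists_field T fun u v hu hv => by
    obtain ⟨i, hi⟩ := h.trans _ _ (fun he => hu (congrArg Additive.ofMul (Subtype.ext he : (Additive.toMul u : Om) = 1)))
      (Additive.toMul u : Om).2
      (fun he => hv (congrArg Additive.ofMul (Subtype.ext he : (Additive.toMul v : Om) = 1))) (Additive.toMul v : Om).2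
    exact ⟨i, Additive.toMul.injective (Subtype.ext ((hT i u).trans hi))⟩
  haveI : CharP F 2 := CharTwo.of_one_ne_zero_of_two_eq_zero one_ne_zero (by
    obtain ⟨v, hv⟩ := e.surjective 1
    rw [← one_add_one_eq_two, ← hv, ← map_add]
    refine (congrArg e ?_).trans (map_zero e)
    exact Additive.toMul.injective (Subtype.ext (Additive.toMul v : Om).2))
  let val : F → P := fun t => ((Additive.toMul (e.symm t) : Om) : P)
  have hval_add : ∀ s t, val (s + t) = val s * val t := fun s t => by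
    show ((Additive.toMul (e.symm (s + t)) : Om) : P) = _
    rw [map_add]
    rfl
  have hval_inj : ∀ s t, val s = val t → s = t := fun s t he =>
    e.symm.injective (Additive.toMul.injective (Subtype.ext he))
  have hval_zero : val 0 = 1 := by
    show ((Additive.toMul (e.symm 0) : Om) : P) = 1
    rw [map_zero]
    rfl
  have hval_l : ∀ t, val (l * t) = k (val t) := fun t => by
    have h1 := hel (e.symm t)
    rw [AddEquiv.apply_symm_apply] at h1
    show ((Additive.toMul (e.symm (l * t)) : Om) : P) = _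
    rw [← h1, AddEquiv.symm_apply_apply]
    rfl
  have hlift : ∀ t : F, ∃ a ∈ A, π a = val t := fun t => by
    by_cases ht : val t = 1
    · refine ⟨1, A.one_mem, ?_⟩
      have := hπmul 1 A.one_mem 1 A.one_mem
      rw [one_mul] at this
      rw [ht]
      exact mul_eq_right.mp this.symm
    · obtain ⟨a, ha, ha1⟩ := hπne
      refine h.full (A := {v | ∃ a ∈ A, π a = v}) ?_ ⟨a, ha, rfl⟩ ha1 (hπΩ a ha) ht (Additive.toMul (e.symm t) : Om).2
      rintro _ ⟨b, hb, rfl⟩
      exact ⟨k b, hA b hb, hπk b hb⟩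
  choose lift hliftA hliftπ using hlift
  have hsymm : ∀ a ∈ A, ∀ b ∈ A, β a b = β b a := fun a ha b hb => by
    have h1 := hβa _ (A.mul_mem ha hb)
    rw [hβl a ha b hb _ (A.mul_mem ha hb), hβr a ha a ha b hb, hβr b hb a ha b hb, hβa a ha, hβa b hb, one_mul,
      mul_one] at h1
    exact (eq_inv_of_mul_eq_one_left h1).trans (eq_inv_of_mul_eq_one_left (hβΩ b hb a ha)).symm
  have hcongr : ∀ a ∈ A, ∀ a' ∈ A, ∀ b ∈ A, π a = π a' → β a b = β a' b := fun a ha a' ha' b hb he => by
    have h1 : π (a * a') = 1 := by rw [hπmul a ha a' ha', he, hπΩ a' ha']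
    have h2 := hβker _ (A.mul_mem ha ha') h1 b hb
    rw [hβl a ha a' ha' b hb] at h2
    exact (eq_inv_of_mul_eq_one_left h2).trans (eq_inv_of_mul_eq_one_left (hβΩ a' ha' b hb)).symm
  have hcongr₂ : ∀ a ∈ A, ∀ a' ∈ A, ∀ b ∈ A, ∀ b' ∈ A, π a = π a' → π b = π b' → β a b = β a' b' :=
    fun a ha a' ha' b hb b' hb' he he' => by
      rw [hcongr a ha a' ha' b hb he, hsymm a' ha' b hb, hcongr b hb b' hb' a' ha' he', hsymm b' hb' a' ha']
  let b' : F → F → F := fun s t => e (Additive.ofMul ⟨β (lift s) (lift t), hβΩ _ (hliftA s) _ (hliftA t)⟩)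
  have hb' : ∀ s t, val (b' s t) = β (lift s) (lift t) := fun s t => by
    show ((Additive.toMul (e.symm (e _)) : Om) : P) = _
    rw [AddEquiv.symm_apply_apply]
    rfl
  have hzero := alternating_eq_zero (β := b') (fun s t t' => hval_inj _ _ (by
      rw [hval_add, hb', hb', hb', ← hβr _ (hliftA s) _ (hliftA t) _ (hliftA t')]
      exact hcongr₂ _ (hliftA s) _ (hliftA s) _ (hliftA _) _ (A.mul_mem (hliftA t) (hliftA t')) rfl (by
        rw [hπmul _ (hliftA t) _ (hliftA t'), hliftπ, hliftπ, hliftπ, hval_add])))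
    (fun s s' t => hval_inj _ _ (by
      rw [hval_add, hb', hb', hb', ← hβl _ (hliftA s) _ (hliftA s') _ (hliftA t)]
      exact hcongr₂ _ (hliftA _) _ (A.mul_mem (hliftA s) (hliftA s')) _ (hliftA t) _ (hliftA t) (by
        rw [hπmul _ (hliftA s) _ (hliftA s'), hliftπ, hliftπ, hliftπ, hval_add]) rfl))
    (fun s => hval_inj _ _ (by rw [hb', hval_zero]; exact hβa _ (hliftA s)))
    (fun t a b ht => by
      obtain ⟨i, rfl⟩ := hgen t ht
      induction i generalizing a b with
      | zero => simp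
      | succ i ih =>
        rw [pow_succ', mul_assoc, mul_assoc, mul_assoc]
        have step : ∀ a b, b' (l * a) (l * b) = l * b' a b := fun a b => hval_inj _ _ (by
          rw [hb', hval_l, hb', ← hβk _ (hliftA a) _ (hliftA b)]
          exact hcongr₂ _ (hliftA _) _ (hA _ (hliftA a)) _ (hliftA _) _ (hA _ (hliftA b))
            (by rw [hπk _ (hliftA a), hliftπ, hliftπ, hval_l]) (by rw [hπk _ (hliftA b), hliftπ, hliftπ, hval_l]))
        rw [step]
        congr 1
        exact ih a b (pow_ne_zero i (fun hl => ht (by rw [hl, zero_pow (Nat.succ_ne_zero i)]))))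
  intro a ha b hb
  have := congrArg val (hzero (e (Additive.ofMul ⟨π a, hπΩ a ha⟩)) (e (Additive.ofMul ⟨π b, hπΩ b hb⟩)))
  rw [hb', hval_zero] at this
  rw [← this]
  refine hcongr₂ _ ha _ (hliftA _) _ hb _ (hliftA _) ?_ ?_ <;>
  · rw [hliftπ]
    show _ = ((Additive.toMul (e.symm (e _)) : Om) : P)
    rw [AddEquiv.symm_apply_apply]
    rfl

end CfsgLib.SuzukiTwo
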