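import Mathlib

/-!
A finite elementary abelian 2-group with an automorphism transitive on its nonzero elements is a field,
and an equivariant alternating product on it vanishes.
-/

set_option autoImplicit false

namespace CfsgLib.SuzukiTwo

universe u

/-- The field structure given by an automorphism with a single orbit on the nonzero elements. -/
theorem exists_field {V : Type u} [AddCommGroup V] [Finite V] [Nontrivial V] (T : V ≃+ V)
    (htr : ∀ u v : V, u ≠ 0 → v ≠ 0 → ∃ i : ℕ, (fun x => T x)^[i] u = v) :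
    ∃ (F : Type u) (_ : Field F) (_ : Finite F) (e : V ≃+ F) (l : F),
      (∀ v, e (T v) = l * e v) ∧ ∀ t : F, t ≠ 0 → ∃ i : ℕ, l ^ i = t := by
  obtain ⟨v₀, hv₀⟩ := exists_ne (0 : V)
  let T' : AddMonoid.End V := T.toAddMonoidHom
  let C : Subring (AddMonoid.End V) := Subring.centralizer {T'}
  have hT : T' ∈ C := Subring.mem_centralizer_iff.mpr fun g hg => by
    rw [Set.mem_singleton_iff] at hg
    rw [hg]
  have hpow : ∀ (i : ℕ) (v : V), (T' ^ i) v = (fun x => T x)^[i] v := by
    intro i
    induction i with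
    | zero => intro v; rfl
    | succ i ih =>
      intro v
      rw [pow_succ', Function.iterate_succ_apply', ← ih]
      rfl
  have hcomm : ∀ (g : C) (i : ℕ), (g : AddMonoid.End V) * T' ^ i = T' ^ i * (g : AddMonoid.End V) := fun g i =>
    ((Commute.pow_right (show Commute (g : AddMonoid.End V) T' from
      (Subring.mem_centralizer_iff.mp g.2 T' rfl).symm) i))
  have hinj : ∀ g h : C, (g : AddMonoid.End V) v₀ = (h : AddMonoid.End V) v₀ → g = h := fun g h hgh => by
    refine Subtype.ext (DFunLike.ext _ _ fun v => ?_)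
    by_cases hv : v = 0
    · rw [hv, map_zero, map_zero]
    · obtain ⟨i, hi⟩ := htr v₀ v hv₀ hv
      rw [← hpow] at hi
      rw [← hi]
      have h1 := congrArg (fun f : AddMonoid.End V => f v₀) (hcomm g i)
      have h2 := congrArg (fun f : AddMonoid.End V => f v₀) (hcomm h i)
      exact h1.trans ((congrArg (T' ^ i) hgh).trans h2.symm)
  let ev : C →+ V :=
    { toFun := fun g => (g : AddMonoid.End V) v₀
      map_zero' := rfl
      map_add' := fun g h => rfl }
  have hbij : Function.Bijective ev := by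
    refine ⟨fun g h hgh => hinj g h hgh, fun v => ?_⟩
    by_cases hv : v = 0
    · exact ⟨0, hv.symm⟩
    · obtain ⟨i, hi⟩ := htr v₀ v hv₀ hv
      exact ⟨⟨T' ^ i, Subring.pow_mem C hT i⟩, (hpow i v₀).trans hi⟩
  let e : C ≃+ V := AddEquiv.ofBijective ev hbij
  haveI : Finite C := Finite.of_equiv V e.symm.toEquiv
  have hgen : ∀ g : C, g ≠ 0 → ∃ i : ℕ, (⟨T', hT⟩ : C) ^ i = g := fun g hg => by
    have hgv : e g ≠ 0 := fun h => hg (e.injective (h.trans (map_zero e).symm))
    obtain ⟨i, hi⟩ := htr v₀ (e g) hv₀ hgv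
    refine ⟨i, hinj _ _ ?_⟩
    rw [SubmonoidClass.coe_pow, hpow i v₀]
    exact hi
  have hT0 : (⟨T', hT⟩ : C) ≠ 0 := fun h => by
    have h1 := congrArg (fun g : C => (g : AddMonoid.End V) v₀) h
    exact hv₀ (T.injective (h1.trans (map_zero T).symm))
  have hC : IsField C := by
    refine ⟨⟨0, 1, fun h => ?_⟩, fun g h => ?_, fun {g} hg => ?_⟩
    · exact hv₀ (congrArg (fun g : C => (g : AddMonoid.End V) v₀) h).symm
    · by_cases hg : g = 0
      · simp [hg]
      by_cases hh : h = 0
      · simp [hh]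
      obtain ⟨i, rfl⟩ := hgen g hg
      obtain ⟨j, rfl⟩ := hgen h hh
      rw [← pow_add, ← pow_add, Nat.add_comm]
    · obtain ⟨i, rfl⟩ := hgen g hg
      obtain ⟨v, hv⟩ : ∃ v, (T' ^ i) v = v₀ := by
        refine ⟨((fun x => T.symm x)^[i]) v₀, ?_⟩
        rw [hpow]
        exact Function.LeftInverse.iterate (fun x => T.apply_symm_apply x) i v₀
      have hv' : v ≠ 0 := fun h => hv₀ (by rw [← hv, h, map_zero])
      obtain ⟨j, hj⟩ := htr v₀ v hv₀ hv'
      refine ⟨(⟨T', hT⟩ : C) ^ j, hinj _ _ ?_⟩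
      rw [← hpow] at hj
      show ((T' ^ i) * (T' ^ j)) v₀ = v₀
      show (T' ^ i) ((T' ^ j) v₀) = v₀
      rw [hj, hv]
  letI : Field C := hC.toField
  refine ⟨C, inferInstance, inferInstance, e.symm, ⟨T', hT⟩, fun v => ?_, fun t ht => hgen t ht⟩
  apply e.injective
  rw [AddEquiv.apply_symm_apply]
  show T v = T (((e.symm v : C) : AddMonoid.End V) v₀)
  exact congrArg T (e.apply_symm_apply v).symm

/-- An equivariant alternating biadditive product on a field of characteristic two is zero. -/
theorem alternating_eq_zero {F : Type*} [Field F] [Finite F] [CharP F 2] {β : F → F → F}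
    (hadd : ∀ a b b', β a (b + b') = β a b + β a b') (hadd' : ∀ a a' b, β (a + a') b = β a b + β a' b)
    (halt : ∀ a, β a a = 0) (hsc : ∀ t a b : F, t ≠ 0 → β (t * a) (t * b) = t * β a b) :
    ∀ a b, β a b = 0 := by
  have hsymm : ∀ a b, β a b = β b a := fun a b => by
    have h := halt (a + b)
    rw [hadd, hadd', hadd', halt, halt, zero_add, add_zero] at h
    exact (CharTwo.add_eq_zero.mp h).symm
  set f : F → F := fun t => β 1 t with hf
  have hfa : ∀ s t, f (s + t) = f s + f t := fun s t => hadd 1 s t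
  have hf0 : f 0 = 0 := by
    have := hfa 0 0
    rw [add_zero, CharTwo.add_self_eq_zero] at this
    exact this
  have hinv : ∀ t, t ≠ 0 → f t⁻¹ = f t * t⁻¹ := fun t ht => by
    have h := hsc t⁻¹ t 1 (inv_ne_zero ht)
    rw [inv_mul_cancel₀ ht, mul_one, hsymm t 1] at h
    rw [hf]
    exact h.trans (mul_comm _ _)
  have hsq : ∀ t, f (t * t) = 0 := by
    intro t
    by_cases ht : t = 0
    · rw [ht, mul_zero, hf0]
    by_cases ht1 : t = 1
    · rw [ht1, mul_one]
      exact halt 1
    have ht' : t + 1 ≠ 0 := fun h => ht1 (CharTwo.add_eq_zero.mp h)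
    have htt : t * (t + 1) ≠ 0 := mul_ne_zero ht ht'
    have h1 : (t * (t + 1))⁻¹ = t⁻¹ + (t + 1)⁻¹ := by
      field_simp
      linear_combination (-t) * (CharTwo.two_eq_zero : (2 : F) = 0)
    have h2 := hinv _ htt
    rw [h1, hfa, hinv t ht, hinv _ ht', hfa t 1, show f 1 = 0 from halt 1, add_zero, ← mul_add, ← h1] at h2
    have h3 : f t = f (t * (t + 1)) := mul_right_cancel₀ (inv_ne_zero htt) h2
    rw [mul_add, mul_one, hfa] at h3
    exact add_eq_right.mp h3.symm
  have hfz : ∀ t, f t = 0 := fun t => by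
    obtain ⟨r, hr⟩ := surjective_frobenius F 2 t
    rw [← hr, frobenius_def, pow_two]
    exact hsq r
  intro a b
  by_cases ha : a = 0
  · have h := hadd' 0 0 b
    rw [add_zero, CharTwo.add_self_eq_zero] at h
    rw [ha, h]
  · have h := hsc a 1 (a⁻¹ * b) ha
    rw [mul_one, mul_inv_cancel_left₀ ha] at h
    rw [h]
    show a * f (a⁻¹ * b) = 0
    rw [hfz, mul_zero]

end CfsgLib.SuzukiTwo
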